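import Cfsg.Agent.H78.M22R.Counts
import Mathlib.GroupTheory.Subgroup.Simple

/-! Interface for recognising M12 from its order and the set of numbers of elements of equal order. -/

set_option autoImplicit false

namespace H37.MTwelveNse

open H78.M22R (cnt cz)

/-- The seven values taken by the numbers of elements of a given order in M12. -/
def nseSet : Set ℕ := {1, 891, 4400, 5940, 9504, 17280, 23760}

/-- What the order and the counts give at once. -/
structure Facts (G : Type*) [Group G] : Prop where
  card : Nat.card G = 95040
  inv : cnt G 2 = 891
  three : cnt G 3 = 4400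
  five : cnt G 5 = 9504
  six : cnt G 6 = 23760
  orders : ∀ g : G, orderOf g ∈ ({1, 2, 3, 4, 5, 6, 8, 10, 11} : Finset ℕ)
  simple : IsSimpleGroup G
  cent5 : ∀ z : G, orderOf z = 5 → Nat.card (cz z) = 10
  norm5 : ∀ P : Subgroup G, Nat.card P = 5 →
    Nat.card (Subgroup.normalizer (P : Set G)) = 40
  norm11 : ∀ P : Subgroup G, Nat.card P = 11 →
    Nat.card (Subgroup.normalizer (P : Set G)) = 55

/-- The centraliser of an involution commuting with an element of order five has order 240. -/
def CentA (G : Type*) [Group G] : Prop :=
  ∀ t z : G, orderOf t = 2 → orderOf z = 5 → Commute t z → Nat.card (cz t) = 240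

end H37.MTwelveNse
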