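import Cfsg.Agent.H37.MTwelveNse.Base
import Mathlib.GroupTheory.SpecificGroups.Alternating.Simple
import Mathlib.GroupTheory.Perm.Sign
import Mathlib.Tactic.Group

/-! The centraliser of order 240: a central extension of the symmetric group of degree five. -/

set_option autoImplicit false
set_option linter.style.haveILetI false

namespace H37.MTwelveNse

open Subgroup Equiv
open H78.M22R (cnt cz mem_cz card_cz_conj orderOf_conj' card_class_mul)

/-- A subgroup of order 120 of the symmetric group of degree six maps onto that of degree five. -/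
theorem exists_perm_five (H : Subgroup (Perm (Fin 6))) (hH : Nat.card H = 120) :
    ∃ f : H →* Perm (Fin 5), Function.Bijective f := by
  classical
  have h720 : Nat.card (Perm (Fin 6)) = 720 := by rw [Nat.card_perm, Nat.card_fin]; rfl
  have hidx : H.index = 6 := by
    have h := H.card_mul_index
    rw [hH, h720] at h; omega
  let ψ : Perm (Fin 6) →* Perm (Perm (Fin 6) ⧸ H) := MulAction.toPermHom _ _
  have hkerH : ψ.ker ≤ H := by
    rw [← H.normalCore_eq_ker]; exact H.normalCore_le
  have hker : ψ.ker = ⊥ := by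
    have hA : ψ.ker.subgroupOf (alternatingGroup (Fin 6)) = ⊥ := by
      refine (alternatingGroup.normal_subgroup_eq_bot_or_eq_top (by simp)).resolve_right fun h => ?_
      rw [subgroupOf_eq_top] at h
      have h1 := Subgroup.card_le_of_le (h.trans hkerH)
      rw [hH, nat_card_alternatingGroup, Nat.card_fin] at h1
      norm_num [Nat.factorial] at h1
    rw [subgroupOf_eq_bot] at hA
    rw [eq_bot_iff]
    intro n hn
    rw [mem_bot]
    have hcen : ∀ a ∈ alternatingGroup (Fin 6), n * a = a * n := by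
      intro a ha
      have h1 : n * a * n⁻¹ * a⁻¹ ∈ ψ.ker := by
        have := ψ.ker.mul_mem hn ((MonoidHom.normal_ker ψ).conj_mem n⁻¹ (ψ.ker.inv_mem hn) a)
        simpa [mul_assoc] using this
      have h2 : n * a * n⁻¹ * a⁻¹ ∈ alternatingGroup (Fin 6) :=
        mul_mem ((alternatingGroup.normal).conj_mem a ha n) (inv_mem ha)
      exact mul_inv_eq_iff_eq_mul.mp (mul_inv_eq_one.mp (Subgroup.disjoint_def.mp hA h1 h2))
    have key : ∀ n : Perm (Fin 6),
        n * (swap 0 1 * swap 1 2) = (swap 0 1 * swap 1 2) * n →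
        n * (swap 2 3 * swap 3 4) = (swap 2 3 * swap 3 4) * n →
        n * (swap 3 4 * swap 4 5) = (swap 3 4 * swap 4 5) * n → n = 1 := by
      decide +kernel
    refine key n (hcen _ ?_) (hcen _ ?_) (hcen _ ?_) <;> simp [Equiv.Perm.mem_alternatingGroup]
  have hψ : Function.Injective ψ := (MonoidHom.ker_eq_bot_iff ψ).1 hker
  let α := {q : Perm (Fin 6) ⧸ H // q ≠ ((1 : Perm (Fin 6)) : Perm (Fin 6) ⧸ H)}
  have hfix : ∀ h : H, ψ h ((1 : Perm (Fin 6)) : Perm (Fin 6) ⧸ H) = ((1 : Perm (Fin 6)) : Perm (Fin 6) ⧸ H) := by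
    intro h
    exact (QuotientGroup.eq (s := H)).2 (by simp)
  have hiff : ∀ (h : H) (q : Perm (Fin 6) ⧸ H),
      ψ h q ≠ ((1 : Perm (Fin 6)) : Perm (Fin 6) ⧸ H) ↔ q ≠ ((1 : Perm (Fin 6)) : Perm (Fin 6) ⧸ H) :=
    fun h q => by
      constructor
      · intro e e'; subst e'; exact e (hfix h)
      · intro e e'; exact e ((ψ h).injective (e'.trans (hfix h).symm))
  let g : H →* Perm α :=
    { toFun := fun h => (ψ h).subtypePerm (fun q => hiff h q)
      map_one' := Equiv.ext fun q => Subtype.ext (by simp)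
      map_mul' := fun a b => Equiv.ext fun q => Subtype.ext (by simp [map_mul]) }
  have hg : Function.Injective g := by
    intro a b e
    refine Subtype.ext (hψ (Equiv.ext fun q => ?_))
    by_cases hq : q = ((1 : Perm (Fin 6)) : Perm (Fin 6) ⧸ H)
    · rw [hq, hfix, hfix]
    · exact congrArg Subtype.val (congrFun (congrArg (fun p : Perm α => (p : α → α)) e) ⟨q, hq⟩)
  have hα : Nat.card α = 5 := by
    classical
    haveI := Fintype.ofFinite (Perm (Fin 6) ⧸ H)
    have : Fintype.card (Perm (Fin 6) ⧸ H) = 6 := by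
      rw [← Nat.card_eq_fintype_card]; exact hidx
    rw [Nat.card_eq_fintype_card, Fintype.card_subtype_compl, this, Fintype.card_subtype_eq]
  let eα : α ≃ Fin 5 := Finite.equivFinOfCardEq hα
  let f : H →* Perm (Fin 5) := eα.permCongrHom.toMonoidHom.comp g
  have hf : Function.Injective f := eα.permCongrHom.injective.comp hg
  exact ⟨f, (Nat.bijective_iff_injective_and_card f).2 ⟨hf, by
    rw [hH, Nat.card_perm, Nat.card_fin]; rfl⟩⟩

variable {G : Type*} [Group G] [Finite G]

/-- A map of the centraliser of `t` onto the symmetric group of degree five with kernel of order two. -/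
structure Cen (t : G) where
  π : cz t →* Perm (Fin 5)
  surj : Function.Surjective π
  ker : ∀ g : cz t, π g = 1 → (g : G) = 1 ∨ (g : G) = t
  inv : orderOf t = 2
  card : Nat.card (cz t) = 240

/-- The centraliser of an element of order five has one involution. -/
theorem unique_inv_five (F : Facts G) {z s s' : G} (hz : orderOf z = 5) (hs : orderOf s = 2)
    (hsz : Commute s z) (hs' : orderOf s' = 2) (hs'z : Commute s' z) : s' = s := by
  have hw : orderOf (z * s) = 10 := by
    rw [hsz.symm.orderOf_mul_eq_mul_orderOf_of_coprime (by rw [hz, hs]; norm_num), hz, hs]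
  have heq : zpowers (z * s) = cz z := eq_of_le_of_card_ge
    (zpowers_le.2 (mem_cz.2 ((Commute.refl z).mul_left hsz)))
    (by rw [F.cent5 z hz, Nat.card_zpowers, hw])
  have aux : ∀ a : G, orderOf a = 2 → Commute a z → a = (z * s) ^ 5 := by
    intro a ha haz
    have hmem : a ∈ zpowers (z * s) := by rw [heq]; exact mem_cz.2 haz
    obtain ⟨k, hk⟩ := (mem_powers_iff_mem_zpowers.2 hmem)
    simp only at hk
    have h2 : (z * s) ^ (k * 2) = 1 := by rw [pow_mul, hk, ← ha, pow_orderOf_eq_one]
    have h10 := orderOf_dvd_of_pow_eq_one h2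
    rw [hw] at h10
    have h5 : k % 10 = 0 ∨ k % 10 = 5 := by omega
    rw [← hk, ← pow_mod_orderOf, hw]
    rcases h5 with h | h <;> rw [h]
    · exfalso
      rw [← hk, ← pow_mod_orderOf, hw, h, pow_zero, orderOf_one] at ha
      exact absurd ha (by norm_num)
  exact (aux s' hs' hs'z).trans (aux s hs hsz).symm

theorem exists_cen (F : Facts G) {t z : G} (ht2 : orderOf t = 2) (hz : orderOf z = 5)
    (htz : Commute t z) (hC : Nat.card (cz t) = 240) : Nonempty (Cen t) := by
  classical
  have hp5 : Nat.Prime 5 := by decide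
  haveI : Fact (Nat.Prime 5) := ⟨hp5⟩
  have hP₀ : Nat.card (zpowers z) = 5 := by rw [Nat.card_zpowers, hz]
  have hnt : normalizer (zpowers z : Set G) ≤ cz t := by
    intro c hc
    have hcz : c * z * c⁻¹ ∈ zpowers z := (mem_normalizer_iff.1 hc z).1 (mem_zpowers z)
    have hzp : zpowers (c * z * c⁻¹) = zpowers z := eq_of_le_of_card_ge (zpowers_le.2 hcz)
      (by rw [Nat.card_zpowers, Nat.card_zpowers, orderOf_conj'])
    obtain ⟨n, hn⟩ := mem_zpowers_iff.1 (hzp.ge (mem_zpowers z))
    have h1 : Commute (c * t * c⁻¹) (c * z * c⁻¹) :=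
      (H78.M22R.commute_conj_iff c t z).2 htz
    have h2 : Commute (c * t * c⁻¹) z := hn ▸ h1.zpow_right n
    have h3 := unique_inv_five F hz ht2 htz (by rw [orderOf_conj', ht2]) h2
    exact mem_cz.2 (mul_inv_eq_iff_eq_mul.1 h3)
  let z' : cz t := ⟨z, mem_cz.2 htz.symm⟩
  have hz' : orderOf z' = 5 := by rw [← orderOf_coe]; exact hz
  let P : Sylow 5 (cz t) := Sylow.ofCard (zpowers z') (by
    rw [Nat.card_zpowers, hz', hC]
    rw [show (240 : ℕ) = 5 * 48 by norm_num, Nat.factorization_mul (by norm_num) (by norm_num),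
      Finsupp.add_apply, Nat.Prime.factorization_self hp5,
      Nat.factorization_eq_zero_of_not_dvd (by norm_num)]
    norm_num)
  have hP : (P : Subgroup (cz t)) = zpowers z' := rfl
  have hmap : ((P : Subgroup (cz t)).map (cz t).subtype) = zpowers z := by
    rw [hP, MonoidHom.map_zpowers]; rfl
  have hn : Nat.card (normalizer ((P : Subgroup (cz t)) : Set (cz t))) = 40 := by
    rw [← F.norm5 _ hP₀]
    refine Nat.card_congr
      { toFun := fun g => ⟨g.1.1, ?_⟩
        invFun := fun g => ⟨⟨g.1, hnt g.2⟩, ?_⟩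
        left_inv := fun g => rfl
        right_inv := fun g => rfl }
    · rw [mem_normalizer_iff, ← hmap]
      intro x
      have hg := mem_normalizer_iff.1 g.2
      constructor
      · rintro ⟨y, hy, rfl⟩; exact ⟨g.1 * y * g.1⁻¹, (hg y).1 hy, rfl⟩
      · rintro ⟨y, hy, e⟩
        refine ⟨g.1⁻¹ * y * g.1, (hg _).2 ?_, ?_⟩
        · have e' : g.1 * (g.1⁻¹ * y * g.1) * g.1⁻¹ = y := by group
          rw [e']; exact hy
        · simp only [map_mul, map_inv, e, coe_subtype]; group
    · rw [mem_normalizer_iff]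
      intro x
      rw [← mem_map_iff_mem (cz t).subtype_injective, ← mem_map_iff_mem (cz t).subtype_injective
        (x := (⟨g.1, hnt g.2⟩ : cz t) * x * (⟨g.1, hnt g.2⟩ : cz t)⁻¹), hmap]
      exact mem_normalizer_iff.1 g.2 x
  have h6 : Nat.card (Sylow 5 (cz t)) = 6 := by
    rw [P.card_eq_index_normalizer]
    have h := (normalizer ((P : Subgroup (cz t)) : Set (cz t))).card_mul_index
    rw [hn, hC] at h
    exact Nat.eq_of_mul_eq_mul_left (by norm_num : 0 < 40) (h.trans rfl)
  let eS : Sylow 5 (cz t) ≃ Fin 6 := Finite.equivFinOfCardEq h6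
  let φ : cz t →* Perm (Fin 6) :=
    eS.permCongrHom.toMonoidHom.comp (MulAction.toPermHom (cz t) (Sylow 5 (cz t)))
  have hfix : ∀ g, φ g = 1 → ∀ S : Sylow 5 (cz t), g ∈ normalizer ((S : Subgroup (cz t)) : Set (cz t)) := by
    intro g hg S
    have h1 : MulAction.toPermHom (cz t) (Sylow 5 (cz t)) g = 1 :=
      eS.permCongrHom.injective (hg.trans (map_one eS.permCongrHom).symm)
    exact Sylow.smul_eq_iff_mem_normalizer.1 (congrFun (congrArg (fun p : Perm _ => (p : _ → _)) h1) S)
  let t' : cz t := ⟨t, mem_cz.2 (Commute.refl t)⟩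
  have ht' : t' ∈ φ.ker := by
    rw [MonoidHom.mem_ker]
    have h1 : MulAction.toPermHom (cz t) (Sylow 5 (cz t)) t' = 1 := by
      refine Equiv.ext fun S => ?_
      refine Sylow.smul_eq_iff_mem_normalizer.2 (mem_normalizer_iff.2 fun x => ?_)
      rw [show t' * x * t'⁻¹ = x from Subtype.ext (by
        show t * x.1 * t⁻¹ = x.1
        rw [(mem_cz.1 x.2).symm.eq, mul_inv_cancel_right])]
    show eS.permCongrHom (MulAction.toPermHom (cz t) (Sylow 5 (cz t)) t') = 1
    rw [h1, map_one]
  have h5 : ¬ 5 ∣ Nat.card φ.ker := by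
    intro h
    obtain ⟨y, hyk, hy⟩ := H78.M22R.exists_orderOf 5 h
    have hall : ∀ S : Sylow 5 (cz t), y ∈ (S : Subgroup (cz t)) := by
      intro S
      have hp : IsPGroup 5 (zpowers y) := H78.M22R.isPGroup_zpowers hy
      have hle : ((S : Subgroup (cz t)) ⊔ zpowers y : Subgroup (cz t)) = S := S.3
        (IsPGroup.to_sup_of_normal_left' S.2 hp (zpowers_le.2 (hfix y hyk S))) le_sup_left
      exact hle.le (le_sup_right (a := (S : Subgroup (cz t))) (mem_zpowers y))
    have hone : ∀ S : Sylow 5 (cz t), (S : Subgroup (cz t)) = zpowers y := fun S =>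
      (eq_of_le_of_card_ge (zpowers_le.2 (hall S)) (by
        rw [Sylow.card_eq_multiplicity, ← P.card_eq_multiplicity, hP, Nat.card_zpowers,
          Nat.card_zpowers, hz', hy])).symm
    haveI : Subsingleton (Sylow 5 (cz t)) := ⟨fun a b => Sylow.ext ((hone a).trans (hone b).symm)⟩
    have := Finite.card_le_one_iff_subsingleton.2 (inferInstance : Subsingleton (Sylow 5 (cz t)))
    omega
  have hkz : ∀ g : cz t, φ g = 1 → (g : G) = 1 ∨ (g : G) = t := by
    intro g hg
    have hc : g * z' * g⁻¹ * z'⁻¹ = 1 := by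
      have h1 : g * z' * g⁻¹ * z'⁻¹ ∈ zpowers z' :=
        mul_mem ((mem_normalizer_iff.1 (hfix g hg P) z').1 (mem_zpowers z')) (inv_mem (mem_zpowers z'))
      have h2 : g * z' * g⁻¹ * z'⁻¹ ∈ φ.ker := by
        rw [show g * z' * g⁻¹ * z'⁻¹ = g * (z' * g⁻¹ * z'⁻¹) by group]
        exact mul_mem hg ((MonoidHom.normal_ker φ).conj_mem _ (inv_mem hg) z')
      have hd : zpowers z' ⊓ φ.ker = ⊥ := (disjoint_of_coprime_natCard (by
        rw [Nat.card_zpowers, hz']
        exact hp5.coprime_iff_not_dvd.2 h5)).eq_bot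
      exact mem_bot.1 (hd ▸ Subgroup.mem_inf.2 ⟨h1, h2⟩)
    have hgz : Commute (g : G) z :=
      congrArg Subtype.val (mul_inv_eq_iff_eq_mul.1 (mul_inv_eq_one.1 hc))
    have hd10 : orderOf (g : G) ∣ 10 := by
      rw [← F.cent5 z hz]; exact Subgroup.orderOf_dvd_natCard _ (mem_cz.2 hgz)
    have hn5 : ¬ 5 ∣ orderOf (g : G) := fun h => h5 (h.trans (by
      rw [orderOf_coe]; exact Subgroup.orderOf_dvd_natCard _ hg))
    have h2 : orderOf (g : G) = 1 ∨ orderOf (g : G) = 2 :=
      (Nat.dvd_prime Nat.prime_two).1 ((Nat.Coprime.dvd_of_dvd_mul_right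
        (Nat.Coprime.symm (hp5.coprime_iff_not_dvd.2 hn5)) (show orderOf (g : G) ∣ 2 * 5 from hd10)))
    rcases h2 with h | h
    · exact Or.inl (orderOf_eq_one_iff.1 h)
    · exact Or.inr (unique_inv_five F hz ht2 htz h hgz)
  have hker : Nat.card φ.ker = 2 := by
    have hle : φ.ker ≤ zpowers t' := by
      intro g hg
      rcases hkz g hg with h | h
      · rw [show g = 1 from Subtype.ext h]; exact one_mem _
      · rw [show g = t' from Subtype.ext h]; exact mem_zpowers t'
    rw [← le_antisymm (zpowers_le.2 ht') hle, Nat.card_zpowers, ← orderOf_coe]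
    exact ht2
  have hrange : Nat.card φ.range = 120 := by
    have h := φ.ker.card_mul_index
    rw [hker, Subgroup.index_ker, hC] at h
    omega
  obtain ⟨f, hf⟩ := exists_perm_five φ.range hrange
  refine ⟨⟨f.comp φ.rangeRestrict, hf.2.comp φ.rangeRestrict_surjective, fun g hg => ?_, ht2, hC⟩⟩
  exact hkz g (congrArg Subtype.val (hf.1 (hg.trans (map_one f).symm)))

end H37.MTwelveNse
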