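import Cfsg.Agent.H37.MTwelveNse.Lifts
import Mathlib.Tactic.NormNum.Prime

/-! Both classes of involutions, and the centraliser of order 192. -/

set_option autoImplicit false
set_option linter.style.haveILetI false

namespace H37.MTwelveNse

open Subgroup Equiv
open scoped Pointwise
open H78.M22R (cnt cz mem_cz card_cz_conj orderOf_conj' card_class_mul)

theorem perm_five_inverted :
    ∃ ζ : Perm (Fin 5), ζ ^ 5 = 1 ∧ ζ ≠ 1 ∧ dbl * ζ * dbl⁻¹ = ζ⁻¹ := by
  unfold dbl; decide +kernel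

theorem perm_inverter : ∀ x ρ : Perm (Fin 5), x * x * x = 1 → x ≠ 1 → ρ * ρ = 1 → ρ ≠ 1 →
    ρ * x = x * ρ → ∃ β : Perm (Fin 5), β * x * β⁻¹ = x⁻¹ ∧ β * ρ = ρ * β ∧
      (β * ρ) * (β * ρ) = 1 ∧ β * ρ ≠ 1 ∧ Perm.sign (β * ρ) = 1 ∧ ∃ τ, τ * ρ * τ⁻¹ = β := by
  decide +kernel

theorem perm_odd_three : ∀ ρ : Perm (Fin 5), ρ * ρ = 1 → Perm.sign ρ ≠ 1 →
    ∃ x : Perm (Fin 5), x * x * x = 1 ∧ x ≠ 1 ∧ ρ * x = x * ρ := by
  decide +kernel

theorem perm_count_dbl : (Finset.univ.filter fun σ : Perm (Fin 5) =>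
    σ * σ = 1 ∧ σ ≠ 1 ∧ Perm.sign σ = 1).card = 15 := by
  decide +kernel

theorem perm_count_three : (Finset.univ.filter fun σ : Perm (Fin 5) =>
    σ * σ * σ = 1 ∧ σ ≠ 1).card = 20 := by
  decide +kernel

variable {G : Type*} [Group G] [Finite G]

omit [Finite G] in
theorem pow_three' {g : G} (h : orderOf g = 3) : g * g * g = 1 := by
  have := pow_orderOf_eq_one g
  rwa [h, pow_succ, pow_two] at this

namespace Cen

variable {t : G} (c : Cen t)

include c

/-- Both lifts of a product of two disjoint transpositions are conjugates of `u` or `u * t`. -/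
theorem dbl_lift {u : G} (hu : c.Im u dbl) {g : G} {σ : Perm (Fin 5)} (hg : c.Im g σ)
    (h : σ * σ = 1) (h1 : σ ≠ 1) (hs : Perm.sign σ = 1) :
    ∃ a : G, a ∈ cz t ∧ (a * u * a⁻¹ = g ∨ a * (u * t) * a⁻¹ = g) := by
  obtain ⟨τ, hτ⟩ := perm_dbl σ h h1 hs
  obtain ⟨a, ha⟩ := c.exists_im τ
  refine ⟨a, ha.1, ?_⟩
  have hau : c.Im (a * u * a⁻¹) σ := hτ ▸ c.im_conj ha hu
  rcases c.im_eq hg hau with e | e
  · exact Or.inl e.symm
  · refine Or.inr ?_
    rw [e]
    have : a⁻¹ * t = t * a⁻¹ := (c.commute_im (c.im_inv ha)).eq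
    simp only [mul_assoc, this]

/-- An element of order three commuting with `t` and an involution `s` is inverted by an element
commuting with `s`. -/
theorem exists_inverter {u : G} (hu : c.Im u dbl) (hu2 : orderOf u = 2) (hv2 : orderOf (u * t) = 2)
    {x s : G} (hxt : Commute x t) (hst : Commute s t) (hx : orderOf x = 3) (hs : orderOf s = 2)
    (hne : s ≠ t) (hxs : Commute x s) : ∃ b : G, b * x * b⁻¹ = x⁻¹ ∧ Commute b s ∧ Commute b t := by
  obtain ⟨ξ, hξ⟩ := c.exists_of_mem (mem_cz.2 hxt)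
  obtain ⟨ρ, hρ⟩ := c.exists_of_mem (mem_cz.2 hst)
  have hs2 : s * s = 1 := by rw [← pow_two, ← hs, pow_orderOf_eq_one]
  have e3 : ξ * ξ * ξ = 1 :=
    c.im_unique (c.im_mul (c.im_mul hξ hξ) hξ) (by rw [pow_three' hx]; exact c.im_one)
  have n3 : ξ ≠ 1 := by
    rintro rfl
    rcases c.im_cases hξ with e | e
    · rw [e, orderOf_one] at hx; exact absurd hx (by norm_num)
    · rw [e, c.inv] at hx; exact absurd hx (by norm_num)
  have e2 : ρ * ρ = 1 := c.im_unique (c.im_mul hρ hρ) (by rw [hs2]; exact c.im_one)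
  have n2 : ρ ≠ 1 := by
    rintro rfl
    rcases c.im_cases hρ with e | e
    · rw [e, orderOf_one] at hs; exact absurd hs (by norm_num)
    · exact hne e
  obtain ⟨β, hβx, hβρ, hd2, hd1, hds, τ, hτ⟩ := perm_inverter ξ ρ e3 n3 e2 n2
    (c.im_unique (c.im_mul hρ hξ) (hxs.eq ▸ c.im_mul hξ hρ))
  obtain ⟨b, hb⟩ := c.exists_im β
  refine ⟨b, ?_, ?_, c.commute_im hb⟩
  · refine c.odd_unique (c.im_conj hb hξ) (hβx.symm ▸ c.im_inv hξ) ?_ ?_
    · rw [orderOf_conj', hx]; decide
    · rw [orderOf_inv, hx]; decide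
  · have hbb : b * b = 1 := by
      obtain ⟨a, ha⟩ := c.exists_im τ
      have hae : c.Im (a * s * a⁻¹) β := hτ ▸ c.im_conj ha hρ
      have hsq : a * s * a⁻¹ * (a * s * a⁻¹) = 1 := by
        rw [show a * s * a⁻¹ * (a * s * a⁻¹) = a * (s * s) * a⁻¹ by group, hs2, mul_one,
          mul_inv_cancel]
      rcases c.im_eq hb hae with e | e <;> rw [e]
      · exact hsq
      · rw [c.sq_mul_t hae, hsq]
    have hbs : (b * s) * (b * s) = 1 := by
      obtain ⟨a, ha, e | e⟩ := c.dbl_lift hu (c.im_mul hb hρ) hd2 hd1 hds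
      · rw [← e, show a * u * a⁻¹ * (a * u * a⁻¹) = a * (u * u) * a⁻¹ by group, ← pow_two, ← hu2,
          pow_orderOf_eq_one, mul_one, mul_inv_cancel]
      · rw [← e, show a * (u * t) * a⁻¹ * (a * (u * t) * a⁻¹) = a * ((u * t) * (u * t)) * a⁻¹ by group,
          ← pow_two, ← hv2, pow_orderOf_eq_one, mul_one, mul_inv_cancel]
    have h1 : b * s = (b * s)⁻¹ := eq_inv_of_mul_eq_one_left hbs
    rw [mul_inv_rev, inv_eq_of_mul_eq_one_right hbb, inv_eq_of_mul_eq_one_right hs2] at h1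
    exact h1

end Cen

/-- Counting commuting pairs from one class. -/
theorem card_pairs_class (P Q : G → Prop) (hQ : ∀ g a, Q a → Q (g * a * g⁻¹)) {a₀ : G}
    (hP : ∀ a, P a ↔ IsConj a₀ a) :
    Nat.card {p : G × G // P p.1 ∧ Q p.2 ∧ Commute p.1 p.2} =
      Nat.card {a : G // IsConj a₀ a} * Nat.card {b : G // Q b ∧ Commute a₀ b} := by
  classical
  haveI := Fintype.ofFinite {a : G // IsConj a₀ a}
  let e : {p : G × G // P p.1 ∧ Q p.2 ∧ Commute p.1 p.2} ≃
      Σ a : {a : G // IsConj a₀ a}, {b : G // Q b ∧ Commute a.1 b} :=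
    { toFun := fun p => ⟨⟨p.1.1, (hP _).1 p.2.1⟩, ⟨p.1.2, p.2.2.1, p.2.2.2⟩⟩
      invFun := fun q => ⟨(q.1.1, q.2.1), (hP _).2 q.1.2, q.2.2.1, q.2.2.2⟩
      left_inv := fun p => rfl
      right_inv := fun q => rfl }
  rw [Nat.card_congr e, Nat.card_sigma]
  have hfib : ∀ a : {a : G // IsConj a₀ a}, Nat.card {b : G // Q b ∧ Commute a.1 b} =
      Nat.card {b : G // Q b ∧ Commute a₀ b} := by
    rintro ⟨a, ha⟩
    obtain ⟨g, rfl⟩ := isConj_iff.1 ha
    refine (Nat.card_congr ((MulAut.conj g).toEquiv.subtypeEquiv fun b => ?_)).symm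
    simp only [MulEquiv.toEquiv_eq_coe, MulEquiv.coe_toEquiv, MulAut.conj_apply]
    refine and_congr ⟨hQ g b, fun h => ?_⟩ (H78.M22R.commute_conj_iff g a₀ b).symm
    have := hQ g⁻¹ _ h
    rwa [show g⁻¹ * (g * b * g⁻¹) * g⁻¹⁻¹ = b by group] at this
  rw [Finset.sum_congr rfl (fun a _ => hfib a), Finset.sum_const, Finset.card_univ, smul_eq_mul,
    ← Nat.card_eq_fintype_card]

/-- The data used below. -/
structure Setting (G : Type*) [Group G] [Finite G] where
  t : G
  c : Cen t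
  u : G
  v : G
  hv : orderOf v = 2
  imu : c.Im u dbl
  imv : c.Im v dbl
  veq : v = u * t
  hu : IsConj t u
  cardv : Nat.card (cz v) = 192
  cover : ∀ s : G, orderOf s = 2 → IsConj t s ∨ IsConj v s

theorem exists_setting (F : Facts G) (hA : CentA G) : Nonempty (Setting G) := by
  classical
  haveI : Fact (Nat.Prime 2) := ⟨Nat.prime_two⟩
  haveI : Fact (Nat.Prime 5) := ⟨by norm_num⟩
  obtain ⟨z, hz⟩ := exists_prime_orderOf_dvd_card' (G := G) 5 (by rw [F.card]; norm_num)
  obtain ⟨t, htz, ht⟩ := H78.M22R.exists_orderOf 2 (H := cz z) (by rw [F.cent5 z hz]; norm_num)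
  have hC := hA t z ht hz (mem_cz.1 htz)
  obtain ⟨c⟩ := exists_cen F ht hz (mem_cz.1 htz) hC
  obtain ⟨u, v, hv, hud, hvd, he, hu, h64⟩ := c.exists_uv F
  -- `v` inverts an element of order five
  obtain ⟨ζ, hζ5, hζ1, hζ⟩ := perm_five_inverted
  obtain ⟨w, hw, hw5⟩ := c.exists_odd_lift (by norm_num) (by norm_num) hζ5 hζ1
  have hvw : v * w * v⁻¹ = w⁻¹ := c.odd_unique (c.im_conj hvd hw) (hζ.symm ▸ c.im_inv hw)
    (by rw [orderOf_conj', hw5]; decide) (by rw [orderOf_inv, hw5]; decide)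
  have hSyl : ∀ a : G, orderOf a = 5 → ∃ S : Sylow 5 G, (S : Subgroup G) = zpowers a := by
    intro a ha
    refine ⟨Sylow.ofCard (zpowers a) ?_, rfl⟩
    rw [Nat.card_zpowers, ha, F.card, show (95040 : ℕ) = 5 * 19008 by norm_num,
      Nat.factorization_mul (by norm_num) (by norm_num), Finsupp.add_apply,
      Nat.Prime.factorization_self (by norm_num), Nat.factorization_eq_zero_of_not_dvd (by norm_num)]
    norm_num
  have hinvall : ∀ a : G, orderOf a = 5 → ∃ s : G, IsConj v s ∧ s * a * s⁻¹ = a⁻¹ := by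
    intro a ha
    obtain ⟨S₁, hS₁⟩ := hSyl w hw5
    obtain ⟨S₂, hS₂⟩ := hSyl a ha
    obtain ⟨g, hg⟩ := MulAction.exists_smul_eq G S₁ S₂
    have hmem : a ∈ ((MulAut.conj g) • (S₁ : Subgroup G) : Subgroup G) := by
      rw [← Sylow.coe_subgroup_smul, hg, hS₂]; exact mem_zpowers a
    obtain ⟨y, hy, rfl⟩ := hmem
    rw [hS₁] at hy
    obtain ⟨k, rfl⟩ := mem_zpowers_iff.1 hy
    refine ⟨g * v * g⁻¹, isConj_iff.2 ⟨g, rfl⟩, ?_⟩
    simp only [MulDistribMulAction.toMonoidEnd_apply, MulDistribMulAction.toMonoidHom_apply,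
      MulAut.smul_def, MulAut.conj_apply]
    rw [show g * v * g⁻¹ * (g * w ^ k * g⁻¹) * (g * v * g⁻¹)⁻¹ = g * (v * w ^ k * v⁻¹) * g⁻¹ by
      group, ← conj_zpow, hvw, inv_zpow]
    group
  have hv2 : v * v = 1 := by rw [← pow_two, ← hv, pow_orderOf_eq_one]
  choose s hs hsinv using hinvall
  have hbound : 47520 ≤ Nat.card {a : G // IsConj v a} * Nat.card {a : G // IsConj v a} := by
    have hsq : ∀ {a : G}, IsConj v a → a * a = 1 := by
      intro a ha
      obtain ⟨g, rfl⟩ := isConj_iff.1 ha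
      rw [show g * v * g⁻¹ * (g * v * g⁻¹) = g * (v * v) * g⁻¹ by group, hv2, mul_one, mul_inv_cancel]
    have hzs : ∀ (a : G) (ha : orderOf a = 5) (j : ℕ),
        a ^ (2 * j) * s a ha = a ^ j * s a ha * (a ^ j)⁻¹ := by
      intro a ha j
      have hc : s a ha * (a ^ j)⁻¹ = a ^ j * s a ha := by
        have h1 : s a ha * (a ^ j)⁻¹ * (s a ha)⁻¹ = a ^ j := by
          rw [← inv_pow, ← conj_pow, ← conj_inv, hsinv a ha, inv_inv]
        exact mul_inv_eq_iff_eq_mul.1 h1
      rw [mul_assoc, hc, ← mul_assoc, ← pow_add, two_mul]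
    have hD : ∀ (a : G) (ha : orderOf a = 5) (k : ℕ), IsConj v (a ^ k * s a ha) := by
      intro a ha k
      have hk : a ^ k = a ^ (2 * (3 * k)) := by
        rw [← pow_mod_orderOf a k, ← pow_mod_orderOf a (2 * (3 * k)), ha]
        congr 1; omega
      rw [hk, hzs a ha]
      exact (hs a ha).trans (isConj_iff.2 ⟨_, rfl⟩)
    let f : {a : G // orderOf a = 5} × Fin 5 → {a : G // IsConj v a} × {a : G // IsConj v a} :=
      fun p => (⟨p.1.1 ^ (p.2 : ℕ) * s p.1.1 p.1.2, hD _ p.1.2 _⟩,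
        ⟨p.1.1 ^ ((p.2 : ℕ) + 4) * s p.1.1 p.1.2, hD _ p.1.2 _⟩)
    have hf : Function.Injective f := by
      have hprod : ∀ (a : G) (ha : orderOf a = 5) (k : ℕ),
          (a ^ (k + 4) * s a ha) * (a ^ k * s a ha) = a ^ 4 := by
        intro a ha k
        have h := hsq (hD a ha k)
        rw [pow_add, (Commute.pow_pow_self a k 4).eq, mul_assoc (a ^ 4) (a ^ k), mul_assoc, h,
          mul_one]
      rintro ⟨⟨a, ha⟩, k⟩ ⟨⟨b, hb⟩, l⟩ e
      have e1 : a ^ (k : ℕ) * s a ha = b ^ (l : ℕ) * s b hb := congrArg Subtype.val (congrArg Prod.fst e)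
      have e2 : a ^ ((k : ℕ) + 4) * s a ha = b ^ ((l : ℕ) + 4) * s b hb :=
        congrArg Subtype.val (congrArg Prod.snd e)
      have hab : a ^ 4 = b ^ 4 := by rw [← hprod a ha k, ← hprod b hb l, e1, e2]
      have hab' : a = b := by
        have h4 : ∀ x : G, orderOf x = 5 → (x ^ 4) ^ 4 = x := by
          intro x hx
          rw [← pow_mul, ← pow_mod_orderOf, hx]
          norm_num
        rw [← h4 a ha, ← h4 b hb, hab]
      subst hab'
      have hk := pow_injOn_Iio_orderOf (by rw [Set.mem_Iio, ha]; exact k.isLt)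
        (by rw [Set.mem_Iio, ha]; exact l.isLt) (mul_right_cancel e1)
      exact Prod.ext rfl (Fin.ext hk)
    have h := Nat.card_le_card_of_injective f hf
    rw [Nat.card_prod, Nat.card_prod, Nat.card_fin] at h
    have h5 := F.five
    rw [cnt] at h5
    rw [h5] at h
    exact h
  have ht240 : ∀ a : G, IsConj t a → Nat.card (cz a) = 240 := by
    intro a ha
    obtain ⟨g, rfl⟩ := isConj_iff.1 ha
    rw [card_cz_conj, c.card]
  have hnconj : ¬ IsConj t v := fun h => by
    have := h64; rw [ht240 v h] at this; exact absurd this (by norm_num)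
  have hA396 : Nat.card {a : G // IsConj t a} = 396 := by
    have h := card_class_mul t
    rw [c.card, F.card] at h; omega
  have hsum : 396 + Nat.card {a : G // IsConj v a} ≤ 891 := by
    rw [← hA396, ← F.inv, cnt]
    rw [← Nat.card_sum]
    refine Nat.card_le_card_of_injective (fun p => (match p with
      | Sum.inl a => ⟨a.1, by
          obtain ⟨g, hg⟩ := isConj_iff.1 a.2
          rw [← hg, orderOf_conj', ht]⟩
      | Sum.inr a => ⟨a.1, by
          obtain ⟨g, hg⟩ := isConj_iff.1 a.2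
          rw [← hg, orderOf_conj', hv]⟩ : {g : G // orderOf g = 2})) ?_
    rintro (⟨a, ha⟩ | ⟨a, ha⟩) (⟨b, hb⟩ | ⟨b, hb⟩) e <;>
      have e' : a = b := congrArg Subtype.val e <;> subst e'
    · rfl
    · exact absurd (ha.trans hb.symm) hnconj
    · exact absurd (hb.trans ha.symm) hnconj
    · rfl
  have hcv : Nat.card (cz v) = 192 := by
    have h := card_class_mul v
    rw [F.card] at h
    obtain ⟨m, hm⟩ := h64
    rw [hm] at h
    have hm5 : m ≠ 5 := by
      rintro rfl
      obtain ⟨y, hy, hy5⟩ := H78.M22R.exists_orderOf 5 (H := cz v) (by rw [hm]; norm_num)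
      have := hA v y hv hy5 (mem_cz.1 hy).symm
      rw [hm] at this
      exact absurd this (by norm_num)
    generalize Nat.card {a : G // IsConj v a} = N at hbound hsum h
    have hN : 218 ≤ N := by
      by_contra hlt
      have := Nat.mul_le_mul (by omega : N ≤ 217) (by omega : N ≤ 217)
      omega
    have h' : N * m = 1485 := by
      rw [← Nat.mul_assoc, Nat.mul_right_comm] at h
      omega
    have : m ≤ 6 := by
      by_contra hlt
      have := Nat.mul_le_mul hN (by omega : 7 ≤ m)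
      omega
    interval_cases m <;> omega
  have hN : Nat.card {a : G // IsConj v a} = 495 := by
    have h := card_class_mul v
    rw [F.card, hcv] at h; omega
  refine ⟨⟨t, c, u, v, hv, hud, hvd, he, hu, hcv, fun a ha => ?_⟩⟩
  by_contra hcon
  rw [not_or] at hcon
  haveI := Fintype.ofFinite G
  have h1 : (Finset.univ.filter fun g : G => IsConj t g).card +
      (Finset.univ.filter fun g : G => IsConj v g).card = 891 := by
    rw [← Fintype.card_subtype, ← Fintype.card_subtype, ← Nat.card_eq_fintype_card,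
      ← Nat.card_eq_fintype_card, hA396, hN]
  rw [← Finset.card_union_of_disjoint (Finset.disjoint_filter.2 fun g _ h1 h2 =>
    hnconj (h1.trans h2.symm))] at h1
  have hss : (Finset.univ.filter fun g : G => IsConj t g) ∪ (Finset.univ.filter fun g : G => IsConj v g) ⊆
      (Finset.univ.filter fun g : G => orderOf g = 2).erase a := by
    intro g hg
    simp only [Finset.mem_union, Finset.mem_filter, Finset.mem_univ, true_and] at hg
    simp only [Finset.mem_erase, Finset.mem_filter, Finset.mem_univ, true_and]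
    rcases hg with hg | hg <;> obtain ⟨k, hk⟩ := isConj_iff.1 hg
    · exact ⟨fun e => hcon.1 (e ▸ hg), by rw [← hk, orderOf_conj', ht]⟩
    · exact ⟨fun e => hcon.2 (e ▸ hg), by rw [← hk, orderOf_conj', hv]⟩
  have h2 := Finset.card_le_card hss
  rw [h1, Finset.card_erase_of_mem (by simp [ha]), ← Fintype.card_subtype,
    ← Nat.card_eq_fintype_card] at h2
  have h3 := F.inv
  rw [cnt] at h3
  omega

end H37.MTwelveNse
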