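import Cfsg.Agent.H6.Basic
import Cfsg.Agent.H78.M22R.Fix
import Cfsg.Prelude.Def_Transfer

/-! A group of order 32 with an element of order three fixing only a central subgroup of order two. -/

set_option autoImplicit false
set_option linter.style.haveILetI false

namespace H37.MTwelveNse

open Subgroup
open scoped commutatorElement

variable {G : Type*} [Group G] [Finite G]

/-- The hypotheses: `x` of order three normalises `Q` of order 32 and fixes only `1, v` in it. -/
structure Fpf (Q : Subgroup G) (x v : G) : Prop where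
  card : Nat.card Q = 32
  ordx : orderOf x = 3
  norm : ∀ q ∈ Q, x * q * x⁻¹ ∈ Q
  ordv : orderOf v = 2
  memv : v ∈ Q
  fixv : Commute v x
  fix : ∀ q ∈ Q, Commute q x → q = 1 ∨ q = v
  cent : ∀ q ∈ Q, Commute v q

/-- The commutator. -/
def cm (a b : G) : G := a * b * a⁻¹ * b⁻¹

namespace Fpf

variable {Q : Subgroup G} {x v : G} (H : Fpf Q x v)

include H

omit [Finite G] in
theorem mem_k {k : G} : k ∈ zpowers v ↔ k = 1 ∨ k = v := by
  constructor
  · intro hk
    obtain ⟨n, rfl⟩ := mem_zpowers_iff.1 hk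
    rw [← zpow_mod_orderOf, H.ordv]
    rcases Int.emod_two_eq_zero_or_one n with h | h
    · left; rw [show n % ((2 : ℕ) : ℤ) = 0 from h, zpow_zero]
    · right; rw [show n % ((2 : ℕ) : ℤ) = 1 from h, zpow_one]
  · rintro (rfl | rfl)
    · exact one_mem _
    · exact mem_zpowers _

omit [Finite G] in
theorem k_comm {k q : G} (hk : k ∈ zpowers v) (hq : q ∈ Q) : Commute k q := by
  rcases H.mem_k.1 hk with rfl | rfl
  · exact Commute.one_left q
  · exact H.cent q hq

omit [Finite G] in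
theorem k_conj {k q : G} (hk : k ∈ zpowers v) (hq : q ∈ Q) : q * k * q⁻¹ = k := by
  rw [(H.k_comm hk hq).symm.eq, mul_inv_cancel_right]

omit [Finite G] in
theorem norm_inv {q : G} (hq : q ∈ Q) : x⁻¹ * q * x ∈ Q := by
  have h := H.norm _ (H.norm q hq)
  have h3 : x * x * x = 1 := by
    have := pow_orderOf_eq_one x
    rwa [H.ordx, pow_succ, pow_two] at this
  rw [show x⁻¹ = x * x from inv_eq_of_mul_eq_one_right (by rw [← mul_assoc, h3])]
  have e : x * (x * q * x⁻¹) * x⁻¹ = x * x * q * x := by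
    rw [show x * (x * q * x⁻¹) * x⁻¹ = x * x * q * (x * x)⁻¹ by group,
      show (x * x)⁻¹ = x from inv_eq_of_mul_eq_one_right h3]
  rwa [e] at h

/-- An invariant subgroup containing `v` has order 2, 8 or 32. -/
theorem card_cases {B : Subgroup G} (hB : B ≤ Q) (hv : v ∈ B) (hx : ∀ b ∈ B, x * b * x⁻¹ ∈ B) :
    Nat.card B = 2 ∨ Nat.card B = 8 ∨ Nat.card B = 32 := by
  have h : Nat.card B ≡ Nat.card {g : G // g ∈ (B : Set G) ∧ Commute g x} [MOD 3] :=
    H78.M22R.fixed_count H.ordx hx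
  have h2 : Nat.card {g : G // g ∈ (B : Set G) ∧ Commute g x} = 2 := by
    rw [← H.ordv, ← Nat.card_zpowers]
    refine Nat.card_congr (Equiv.subtypeEquivRight fun g => ⟨fun hg => H.mem_k.2 (H.fix g (hB hg.1) hg.2), ?_⟩)
    intro hg
    rcases H.mem_k.1 hg with rfl | rfl
    · exact ⟨one_mem _, Commute.one_left x⟩
    · exact ⟨hv, H.fixv⟩
  have hd := Subgroup.card_dvd_of_le hB
  rw [H.card] at hd
  rw [h2, Nat.ModEq] at h
  obtain ⟨k, hk, e⟩ := (Nat.dvd_prime_pow Nat.prime_two).1 (show Nat.card B ∣ 2 ^ 5 from hd)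
  rw [e] at h ⊢
  interval_cases k <;> simp at h ⊢

/-- A fixed coset lies in the subgroup. -/
theorem coset {A : Subgroup G} (hA : A ≤ Q) (hv : v ∈ A) (hx : ∀ b ∈ A, x * b * x⁻¹ ∈ A) {r : G}
    (hr : r ∈ Q) (h : r⁻¹ * (x * r * x⁻¹) ∈ A) : r ∈ A := by
  have h3 : ¬ 3 ∣ Nat.card A := by
    rcases H.card_cases hA hv hx with e | e | e <;> rw [e] <;> norm_num
  obtain ⟨a, ha, hc⟩ := H78.M22R.fix_coset H.ordx hx h h3
  rcases H.fix _ (mul_mem hr (hA ha)) hc with e | e
  · rw [eq_inv_of_mul_eq_one_left e]; exact inv_mem ha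
  · rw [eq_mul_inv_of_mul_eq e]; exact mul_mem hv (inv_mem ha)

/-- The elements of `Q` central modulo `v`. -/
def zTwo : Subgroup G where
  carrier := {q | q ∈ Q ∧ ∀ r ∈ Q, cm q r ∈ zpowers v}
  one_mem' := ⟨one_mem _, fun r _ => by simp [cm]⟩
  mul_mem' := fun {a b} ha hb => ⟨mul_mem ha.1 hb.1, fun r hr => by
    have e : cm (a * b) r = a * cm b r * a⁻¹ * cm a r := by simp only [cm]; group
    rw [e, H.k_conj (hb.2 r hr) ha.1]
    exact mul_mem (hb.2 r hr) (ha.2 r hr)⟩
  inv_mem' := fun {a} ha => ⟨inv_mem ha.1, fun r hr => by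
    have e : cm a⁻¹ r = a⁻¹ * (cm a r)⁻¹ * (a⁻¹)⁻¹ := by simp only [cm]; group
    rw [e, H.k_conj (inv_mem (ha.2 r hr)) (inv_mem ha.1)]
    exact inv_mem (ha.2 r hr)⟩

omit [Finite G] in
theorem cm_conj (a b : G) : x * cm a b * x⁻¹ = cm (x * a * x⁻¹) (x * b * x⁻¹) := by
  simp only [cm]; group

omit [Finite G] in
theorem k_norm {k : G} (hk : k ∈ zpowers v) : x * k * x⁻¹ = k := by
  rcases H.mem_k.1 hk with rfl | rfl
  · group
  · rw [H.fixv.symm.eq, mul_inv_cancel_right]

theorem zTwo_card : Nat.card (H.zTwo) = 32 := by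
  classical
  haveI : Fact (Nat.Prime 2) := ⟨Nat.prime_two⟩
  have hle : H.zTwo ≤ Q := fun q hq => hq.1
  have hvZ : v ∈ H.zTwo := ⟨H.memv, fun r hr => by
    simp only [cm, (H.cent r hr).eq]
    group; exact one_mem _⟩
  have hxZ : ∀ q ∈ H.zTwo, x * q * x⁻¹ ∈ H.zTwo := by
    intro q hq
    refine ⟨H.norm q hq.1, fun r hr => ?_⟩
    have h := hq.2 _ (H.norm_inv hr)
    have e : cm (x * q * x⁻¹) r = x * cm q (x⁻¹ * r * x) * x⁻¹ := by simp only [cm]; group
    rw [e, H.k_norm h]
    exact h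
  rcases H.card_cases hle hvZ hxZ with hc | hc | hc
  · -- the centre of the quotient is not trivial
    exfalso
    let K : Subgroup Q := (zpowers v).subgroupOf Q
    haveI hKn : K.Normal := ⟨fun k hk g => by
      rw [mem_subgroupOf] at hk ⊢
      simp only [Subgroup.coe_mul, Subgroup.coe_inv]
      rw [H.k_conj hk g.2]; exact hk⟩
    have hKc : Nat.card K = 2 := by
      rw [Nat.card_congr (subgroupOfEquivOfLe (zpowers_le.2 H.memv)).toEquiv, Nat.card_zpowers, H.ordv]
    have hQp : IsPGroup 2 Q := IsPGroup.of_card (n := 5) (by rw [H.card]; norm_num)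
    have hq : Nat.card (Q ⧸ K) = 16 := by
      have h := K.card_eq_card_quotient_mul_card_subgroup
      rw [H.card, hKc] at h; omega
    haveI : Nontrivial (Q ⧸ K) := Finite.one_lt_card_iff_nontrivial.1 (by rw [hq]; norm_num)
    haveI := (hQp.to_quotient K).center_nontrivial
    obtain ⟨⟨c, hcc⟩, hc1⟩ := exists_ne (1 : center (Q ⧸ K))
    obtain ⟨⟨q, hqQ⟩, rfl⟩ := QuotientGroup.mk_surjective c
    have hqZ : q ∈ H.zTwo := ⟨hqQ, fun r hr => by
      have h := mem_center_iff.1 hcc (QuotientGroup.mk (⟨r, hr⟩ : Q))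
      rw [← QuotientGroup.mk_mul, ← QuotientGroup.mk_mul, QuotientGroup.eq, mem_subgroupOf] at h
      simp only [Subgroup.coe_mul, Subgroup.coe_inv] at h
      have e : cm q r = (r * q) * ((r * q)⁻¹ * (q * r)) * (r * q)⁻¹ := by simp only [cm]; group
      rw [e, H.k_conj h (mul_mem hr hqQ)]
      exact h⟩
    have hKle : zpowers v ≤ H.zTwo := zpowers_le.2 hvZ
    have hqK : q ∈ zpowers v := by
      rw [eq_of_le_of_card_ge hKle (by rw [hc, Nat.card_zpowers, H.ordv])]
      exact hqZ
    exact hc1 (Subtype.ext ((QuotientGroup.eq_one_iff _).2 (mem_subgroupOf.2 hqK)))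
  · exfalso
    let Z' : Subgroup Q := H.zTwo.subgroupOf Q
    haveI hZn : Z'.Normal := ⟨fun k hk g => by
      rw [mem_subgroupOf] at hk ⊢
      simp only [Subgroup.coe_mul, Subgroup.coe_inv]
      have h := hk.2 g g.2
      have e : (g : G) * k * (g : G)⁻¹ = (cm (k : G) g)⁻¹ * k := by simp only [cm]; group
      rw [e]
      exact mul_mem (inv_mem (zpowers_le.2 hvZ h)) hk⟩
    have hq : Nat.card (Q ⧸ Z') = 4 := by
      have h := Z'.card_eq_card_quotient_mul_card_subgroup
      rw [H.card, Nat.card_congr (subgroupOfEquivOfLe hle).toEquiv, hc] at h; omega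
    obtain ⟨a, haQ, haZ⟩ : ∃ a ∈ Q, a ∉ H.zTwo := by
      by_contra! hall
      have := Subgroup.card_le_of_le (show Q ≤ H.zTwo from hall)
      rw [H.card, hc] at this; omega
    let π : Q →* Q ⧸ Z' := QuotientGroup.mk' Z'
    have hπ : ∀ p q : Q, π p = π q ↔ (p : G)⁻¹ * q ∈ H.zTwo := fun p q => QuotientGroup.eq
    have hπ1 : ∀ p : Q, π p = 1 ↔ (p : G) ∈ H.zTwo := fun p => QuotientGroup.eq_one_iff p
    have hcomm : ∀ p q : Q ⧸ Z', p * q = q * p :=
      IsPGroup.commutative_of_card_eq_prime_sq (p := 2) (G := Q ⧸ Z') (by rw [hq]; norm_num)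
    set A : Q := ⟨a, haQ⟩
    set B : Q := ⟨x * a * x⁻¹, H.norm a haQ⟩ with hB
    set C : Q := ⟨x * (x * a * x⁻¹) * x⁻¹, H.norm _ (H.norm a haQ)⟩ with hC
    have hne : ∀ p : Q, (p : G) ∉ H.zTwo →
        π p ≠ π ⟨x * p * x⁻¹, H.norm _ p.2⟩ ∧ (x * (p : G) * x⁻¹) ∉ H.zTwo := by
      intro p hp
      refine ⟨fun e => hp (H.coset hle hvZ hxZ p.2 ((hπ _ _).1 e)), fun h => ?_⟩
      apply hp
      have h2 := hxZ _ (hxZ _ h)
      have h3 : x * x * x = 1 := by
        have := pow_orderOf_eq_one x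
        rwa [H.ordx, pow_succ, pow_two] at this
      rwa [show x * (x * (x * (p : G) * x⁻¹) * x⁻¹) * x⁻¹ = (x * x * x) * p * (x * x * x)⁻¹ by group,
        h3, one_mul, inv_one, mul_one] at h2
    have hA1 : π A ≠ 1 := fun e => haZ ((hπ1 A).1 e)
    obtain ⟨hAB, hBZ⟩ := hne A haZ
    have hB1 : π B ≠ 1 := fun e => hBZ ((hπ1 B).1 e)
    obtain ⟨hBC, hCZ⟩ := hne B hBZ
    have hC1 : π C ≠ 1 := fun e => hCZ ((hπ1 C).1 e)
    have hAC : π A ≠ π C := by
      intro e
      obtain ⟨hCA, -⟩ := hne C hCZ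
      apply hCA
      rw [← e]
      congr 1
      refine Subtype.ext ?_
      have h3 : x * x * x = 1 := by
        have := pow_orderOf_eq_one x
        rwa [H.ordx, pow_succ, pow_two] at this
      show a = x * (x * (x * a * x⁻¹) * x⁻¹) * x⁻¹
      rw [show x * (x * (x * a * x⁻¹) * x⁻¹) * x⁻¹ = (x * x * x) * a * (x * x * x)⁻¹ by group,
        h3, one_mul, inv_one, mul_one]
    haveI := Fintype.ofFinite (Q ⧸ Z')
    have huniv : ({1, π A, π B, π (A * B)} : Finset (Q ⧸ Z')) = Finset.univ := by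
      refine Finset.eq_univ_of_card _ ?_
      rw [← Nat.card_eq_fintype_card, hq]
      have h1 : π (A * B) ≠ 1 := by
        intro e
        rw [map_mul] at e
        have hBinv : π B = (π A)⁻¹ := eq_inv_of_mul_eq_one_right e
        have hC' : π C = (π B)⁻¹ := by
          have hm : (a * (x * a * x⁻¹)) ∈ H.zTwo := (hπ1 (A * B)).1 (by rw [map_mul]; exact e)
          refine eq_inv_of_mul_eq_one_right ?_
          rw [← map_mul, hπ1]
          have := hxZ _ hm
          simpa [hB, hC, mul_assoc] using this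
        exact hAC (by rw [hC', hBinv, inv_inv])
      have h2 : π (A * B) ≠ π A := fun e => hB1 (by rw [map_mul] at e; exact mul_eq_left.1 e)
      have h3 : π (A * B) ≠ π B := fun e => hA1 (by rw [map_mul] at e; exact mul_eq_right.1 e)
      rw [Finset.card_insert_of_notMem, Finset.card_insert_of_notMem, Finset.card_insert_of_notMem,
        Finset.card_singleton]
      · simp only [Finset.mem_singleton]; exact Ne.symm h3
      · simp only [Finset.mem_insert, Finset.mem_singleton, not_or]; exact ⟨hAB, Ne.symm h2⟩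
      · simp only [Finset.mem_insert, Finset.mem_singleton, not_or]
        exact ⟨Ne.symm hA1, Ne.symm hB1, Ne.symm h1⟩
    have hCAB : π C = π (A * B) := by
      have := Finset.mem_univ (π C)
      rw [← huniv] at this
      simp only [Finset.mem_insert, Finset.mem_singleton] at this
      exact ((this.resolve_left hC1).resolve_left hAC.symm).resolve_left hBC.symm
    -- the commutator of `a` and its image
    set c := cm a (x * a * x⁻¹) with hcdef
    have hcQ : c ∈ Q := mul_mem (mul_mem (mul_mem haQ (H.norm a haQ)) (inv_mem haQ)) (inv_mem (H.norm a haQ))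
    have hcZ : c ∈ H.zTwo := by
      have e : (⟨c, hcQ⟩ : Q) = A * B * A⁻¹ * B⁻¹ := Subtype.ext rfl
      rw [show c = ((⟨c, hcQ⟩ : Q) : G) from rfl, ← hπ1, e]
      simp only [map_mul, map_inv]
      rw [hcomm (π A) (π B)]
      group
    have hxc : ∃ k ∈ zpowers v, x * c * x⁻¹ = c⁻¹ * k := by
      obtain ⟨z, hz, hzC⟩ : ∃ z ∈ H.zTwo, x * (x * a * x⁻¹) * x⁻¹ = a * (x * a * x⁻¹) * z :=
        ⟨_, (hπ _ _).1 hCAB.symm, by simp only [hC, hB]; show _ = a * (x * a * x⁻¹) * _; simp [A]; group⟩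
      rw [hcdef, H.cm_conj, hzC]
      set b := x * a * x⁻¹
      have hb : b ∈ Q := H.norm a haQ
      refine ⟨cm a b * (cm b a * a * b * cm b z * b⁻¹ * a⁻¹), ?_, by simp only [cm]; group⟩
      have hbz : cm b z ∈ zpowers v := by
        rw [show cm b z = (cm z b)⁻¹ by simp only [cm]; group]
        exact inv_mem (hz.2 b hb)
      have e : cm a b * (cm b a * a * b * cm b z * b⁻¹ * a⁻¹) = (a * b) * cm b z * (a * b)⁻¹ := by
        simp only [cm]; group
      rw [e, H.k_conj hbz (mul_mem haQ hb)]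
      exact hbz
    obtain ⟨k, hk, hkc⟩ := hxc
    have hcK : c ∈ zpowers v := by
      have h4 : x * (x * c * x⁻¹) * x⁻¹ = c := by
        rw [hkc, show x * (c⁻¹ * k) * x⁻¹ = (x * c * x⁻¹)⁻¹ * (x * k * x⁻¹) by group, H.k_norm hk, hkc,
          mul_inv_rev, inv_inv]
        rw [mul_assoc, (H.k_comm hk hcQ).symm.eq, inv_mul_cancel_left]
      have h3 : x * x * x = 1 := by
        have := pow_orderOf_eq_one x
        rwa [H.ordx, pow_succ, pow_two] at this
      have h5 : Commute c x := by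
        have hc' : x * c * x⁻¹ = c := by
          have h6 : x * (x * (x * c * x⁻¹) * x⁻¹) * x⁻¹ = x * c * x⁻¹ :=
            congrArg (fun y => x * y * x⁻¹) h4
          rw [show x * (x * (x * c * x⁻¹) * x⁻¹) * x⁻¹ = (x * x * x) * c * (x * x * x)⁻¹ by group,
            h3, one_mul, inv_one, mul_one] at h6
          exact h6.symm
        exact (mul_inv_eq_iff_eq_mul.1 hc').symm
      exact H.mem_k.2 (H.fix c hcQ h5)
    apply haZ
    refine ⟨haQ, fun r hr => ?_⟩
    have hmem := Finset.mem_univ (π ⟨r, hr⟩)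
    rw [← huniv] at hmem
    simp only [Finset.mem_insert, Finset.mem_singleton] at hmem
    have hzr : ∀ z ∈ H.zTwo, cm a z ∈ zpowers v := fun z hz => by
      rw [show cm a z = (cm z a)⁻¹ by simp only [cm]; group]
      exact inv_mem (hz.2 a haQ)
    have hmulr : ∀ p q : G, p ∈ Q → cm a p ∈ zpowers v → cm a q ∈ zpowers v → cm a (p * q) ∈ zpowers v := by
      intro p q hp h1 h2
      rw [show cm a (p * q) = cm a p * (p * cm a q * p⁻¹) by simp only [cm]; group, H.k_conj h2 hp]
      exact mul_mem h1 h2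
    have haa : cm a a ∈ zpowers v := by simp [cm]
    rcases hmem with e | e | e | e
    · exact hzr r ((hπ1 _).1 e)
    all_goals
      have hz := (hπ _ _).1 e.symm
      rw [show r = _ * (_⁻¹ * r) from (mul_inv_cancel_left _ r).symm]
    · exact hmulr _ _ haQ haa (hzr _ hz)
    · exact hmulr _ _ (H.norm a haQ) hcK (hzr _ hz)
    · exact hmulr _ _ (mul_mem haQ (H.norm a haQ)) (hmulr _ _ haQ haa hcK) (hzr _ hz)
  · exact hc

/-- Commutators lie in `zpowers v`. -/
theorem cm_mem {a b : G} (ha : a ∈ Q) (hb : b ∈ Q) : cm a b ∈ zpowers v := by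
  have e : H.zTwo = Q := eq_of_le_of_card_ge (fun q hq => hq.1) (by rw [H.zTwo_card, H.card])
  exact ((e.symm ▸ ha : a ∈ H.zTwo)).2 b hb

omit [Finite G] in
theorem v_sq : v * v = 1 := by rw [← pow_two, ← H.ordv, pow_orderOf_eq_one]

/-- With a noncentral involution the group is extraspecial. -/
theorem extraspecial {d k : G} (hd : d ∈ Q) (hd2 : d * d = 1) (hk : k ∈ Q) (hdk : ¬ Commute d k) :
    Cfsg.IsExtraspecial 2 Q := by
  classical
  haveI : Fact (Nat.Prime 2) := ⟨Nat.prime_two⟩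
  have h3 : x * x * x = 1 := by
    have := pow_orderOf_eq_one x
    rwa [H.ordx, pow_succ, pow_two] at this
  let Z : Subgroup G := Q ⊓ centralizer (Q : Set G)
  have hmemZ : ∀ {z : G}, z ∈ Z ↔ z ∈ Q ∧ ∀ q ∈ Q, Commute q z := fun {z} => by
    simp only [Z, mem_inf, mem_centralizer_iff, SetLike.mem_coe]; rfl
  have hvZ : v ∈ Z := hmemZ.2 ⟨H.memv, fun q hq => (H.cent q hq).symm⟩
  have hxZ : ∀ z ∈ Z, x * z * x⁻¹ ∈ Z := fun z hz => hmemZ.2 ⟨H.norm z (hmemZ.1 hz).1, fun q hq => by
    have := (H78.M22R.commute_conj_iff x (x⁻¹ * q * x) z).2 ((hmemZ.1 hz).2 _ (H.norm_inv hq))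
    rwa [show x * (x⁻¹ * q * x) * x⁻¹ = q by group] at this⟩
  have hdZ : d ∉ Z := fun h => hdk ((hmemZ.1 h).2 k hk).symm
  have hcmsq : ∀ {p q : G}, p ∈ Q → q ∈ Q → cm p q * cm p q = 1 := by
    intro p q hp hq
    rcases H.mem_k.1 (H.cm_mem hp hq) with e | e <;> rw [e]
    · exact one_mul 1
    · exact H.v_sq
  have hZc : Z = zpowers v := by
    rcases H.card_cases inf_le_left hvZ hxZ with hc | hc | hc
    · exact (eq_of_le_of_card_ge (zpowers_le.2 hvZ) (by rw [hc, Nat.card_zpowers, H.ordv])).symm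
    · exfalso
      let Z' : Subgroup Q := Z.subgroupOf Q
      haveI hZn : Z'.Normal := ⟨fun n hn g => by
        rw [mem_subgroupOf] at hn ⊢
        simp only [Subgroup.coe_mul, Subgroup.coe_inv]
        rw [((hmemZ.1 hn).2 g g.2).eq, mul_inv_cancel_right]
        exact hn⟩
      have hq : Nat.card (Q ⧸ Z') = 4 := by
        have h := Z'.card_eq_card_quotient_mul_card_subgroup
        rw [H.card, Nat.card_congr (subgroupOfEquivOfLe inf_le_left).toEquiv, hc] at h; omega
      let π : Q →* Q ⧸ Z' := QuotientGroup.mk' Z'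
      have hπ : ∀ p q : Q, π p = π q ↔ (p : G)⁻¹ * q ∈ Z := fun p q => QuotientGroup.eq
      have hπ1 : ∀ p : Q, π p = 1 ↔ (p : G) ∈ Z := fun p => QuotientGroup.eq_one_iff p
      set A : Q := ⟨d, hd⟩
      set B : Q := ⟨x * d * x⁻¹, H.norm d hd⟩
      set C : Q := ⟨x * (x * d * x⁻¹) * x⁻¹, H.norm _ (H.norm d hd)⟩
      have hA1 : π A ≠ 1 := fun e => hdZ ((hπ1 A).1 e)
      have hback : x * (x * (x * d * x⁻¹) * x⁻¹) * x⁻¹ = d := by
        rw [show x * (x * (x * d * x⁻¹) * x⁻¹) * x⁻¹ = (x * x * x) * d * (x * x * x)⁻¹ by group,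
          h3, one_mul, inv_one, mul_one]
      have hBZ : x * d * x⁻¹ ∉ Z := fun h => hdZ (hback ▸ hxZ _ (hxZ _ h))
      have hCZ : x * (x * d * x⁻¹) * x⁻¹ ∉ Z := fun h => hdZ (hback ▸ hxZ _ h)
      have hB1 : π B ≠ 1 := fun e => hBZ ((hπ1 B).1 e)
      have hAB : π A ≠ π B := fun e => hdZ (H.coset inf_le_left hvZ hxZ hd ((hπ A B).1 e))
      have hBC : π B ≠ π C := fun e => hBZ (H.coset inf_le_left hvZ hxZ (H.norm d hd) ((hπ B C).1 e))
      have hC1 : π C ≠ 1 := fun e => hCZ ((hπ1 C).1 e)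
      have hCA : π C ≠ π A := fun e => hCZ (H.coset inf_le_left hvZ hxZ (H.norm _ (H.norm d hd))
        (by rw [hback]; exact (hπ C A).1 e))
      have hsq : ∀ p : G, p * p = 1 → ∀ g : G, (g * p * g⁻¹) * (g * p * g⁻¹) = 1 := fun p hp g => by
        rw [show (g * p * g⁻¹) * (g * p * g⁻¹) = g * (p * p) * g⁻¹ by group, hp, mul_one, mul_inv_cancel]
      have hb2 := hsq d hd2 x
      have hc2 := hsq _ hb2 x
      set b := x * d * x⁻¹ with hbdef
      have hbQ : b ∈ Q := H.norm d hd
      have hA2 : π A * π A = 1 := by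
        rw [← map_mul, ← map_one π]; exact congrArg π (Subtype.ext hd2)
      haveI := Fintype.ofFinite (Q ⧸ Z')
      have huniv : ({1, π A, π B, π (A * B)} : Finset (Q ⧸ Z')) = Finset.univ := by
        refine Finset.eq_univ_of_card _ ?_
        rw [← Nat.card_eq_fintype_card, hq]
        have h1 : π (A * B) ≠ 1 := fun e => hAB (by
          rw [map_mul, mul_eq_one_iff_inv_eq] at e
          rw [← e, inv_eq_of_mul_eq_one_right hA2])
        have h2 : π (A * B) ≠ π A := fun e => hB1 (by rw [map_mul] at e; exact mul_eq_left.1 e)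
        have h3 : π (A * B) ≠ π B := fun e => hA1 (by rw [map_mul] at e; exact mul_eq_right.1 e)
        rw [Finset.card_insert_of_notMem, Finset.card_insert_of_notMem, Finset.card_insert_of_notMem,
          Finset.card_singleton]
        · simp only [Finset.mem_singleton]; exact Ne.symm h3
        · simp only [Finset.mem_insert, Finset.mem_singleton, not_or]; exact ⟨hAB, Ne.symm h2⟩
        · simp only [Finset.mem_insert, Finset.mem_singleton, not_or]
          exact ⟨Ne.symm hA1, Ne.symm hB1, Ne.symm h1⟩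
      have hCAB : π C = π (A * B) := by
        have := Finset.mem_univ (π C)
        rw [← huniv] at this
        simp only [Finset.mem_insert, Finset.mem_singleton] at this
        exact ((this.resolve_left hC1).resolve_left hCA).resolve_left hBC.symm
      obtain ⟨z, hz, hzC⟩ : ∃ z ∈ Z, x * b * x⁻¹ = d * b * z :=
        ⟨_, (hπ (A * B) C).1 hCAB.symm, (mul_inv_cancel_left (d * b) _).symm⟩
      have hdb : cm d b = v := by
        refine (H.mem_k.1 (H.cm_mem hd hbQ)).resolve_left fun e => hdk ?_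
        have hcb : Commute d b := by
          rw [cm, mul_inv_eq_one, mul_inv_eq_iff_eq_mul] at e
          exact e
        have hmem := Finset.mem_univ (π ⟨k, hk⟩)
        rw [← huniv] at hmem
        simp only [Finset.mem_insert, Finset.mem_singleton] at hmem
        have hzc : ∀ z ∈ Z, Commute d z := fun z hz => (hmemZ.1 hz).2 d hd
        rcases hmem with e | e | e | e
        · exact hzc k ((hπ1 _).1 e)
        all_goals
          have hz' := hzc _ ((hπ _ _).1 e.symm)
          rw [show k = _ * (_⁻¹ * k) from (mul_inv_cancel_left _ k).symm]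
        · exact (Commute.refl d).mul_right hz'
        · exact hcb.mul_right hz'
        · exact ((Commute.refl d).mul_right hcb).mul_right hz'
      have hzz : z * z = v := by
        have h := hc2
        rw [hzC] at h
        have hzdb : Commute z (d * b) := ((hmemZ.1 hz).2 _ (mul_mem hd hbQ)).symm
        rw [show d * b * z * (d * b * z) = d * b * (z * (d * b)) * z by group, hzdb.eq] at h
        have e : d * b * (d * b) = cm d b := by
          rw [cm, inv_eq_of_mul_eq_one_right hd2, inv_eq_of_mul_eq_one_right hb2]; group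
        rw [show d * b * (d * b * z) * z = d * b * (d * b) * (z * z) by group, e, hdb] at h
        rw [eq_inv_of_mul_eq_one_right h, inv_eq_of_mul_eq_one_right H.v_sq]
      haveI hcomm : ∀ p q : Z, p * q = q * p := fun p q =>
        Subtype.ext ((hmemZ.1 q.2).2 p (hmemZ.1 p.2).1).eq
      let sq : Z →* Z :=
        { toFun := fun p => p * p
          map_one' := one_mul 1
          map_mul' := fun p q => by rw [mul_assoc p q, ← mul_assoc q p q, hcomm q p, mul_assoc p q q, ← mul_assoc] }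
      have hxconj : ∀ p : Z, ∀ q : G, q = x * (p : G) * x⁻¹ → ∃ p' : Z, (p' : G) = q := fun p q e =>
        ⟨⟨q, e ▸ hxZ _ p.2⟩, rfl⟩
      let R : Subgroup G := sq.range.map Z.subtype
      have hRQ : R ≤ Q := (map_subtype_le _).trans inf_le_left
      have hvR : v ∈ R := ⟨⟨z, hz⟩ * ⟨z, hz⟩, ⟨⟨z, hz⟩, rfl⟩, hzz⟩
      have hxR : ∀ r ∈ R, x * r * x⁻¹ ∈ R := by
        rintro r ⟨-, ⟨p, rfl⟩, rfl⟩
        refine ⟨sq ⟨_, hxZ _ p.2⟩, ⟨_, rfl⟩, ?_⟩
        show x * (p : G) * x⁻¹ * (x * (p : G) * x⁻¹) = x * ((p : G) * p) * x⁻¹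
        group
      let Ω : Subgroup G := sq.ker.map Z.subtype
      have hΩQ : Ω ≤ Q := (map_subtype_le _).trans inf_le_left
      have hvΩ : v ∈ Ω := ⟨⟨v, hvZ⟩, Subtype.ext H.v_sq, rfl⟩
      have hxΩ : ∀ r ∈ Ω, x * r * x⁻¹ ∈ Ω := by
        rintro r ⟨p, hp, rfl⟩
        refine ⟨⟨_, hxZ _ p.2⟩, Subtype.ext ?_, rfl⟩
        have hp' : (p : G) * p = 1 := congrArg Subtype.val (show sq p = 1 from hp)
        show x * (p : G) * x⁻¹ * (x * (p : G) * x⁻¹) = 1
        exact hsq _ hp' x
      have hRc := H.card_cases hRQ hvR hxR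
      have hΩc := H.card_cases hΩQ hvΩ hxΩ
      rw [card_map_of_injective Z.subtype_injective] at hRc hΩc
      have hprod := sq.ker.card_mul_index
      rw [Subgroup.index_ker, hc] at hprod
      rcases hΩc with e1 | e1 | e1
      · rcases hRc with e2 | e2 | e2 <;> rw [e1, e2] at hprod <;> omega
      · rcases hRc with e2 | e2 | e2 <;> rw [e1, e2] at hprod <;> omega
      · rw [e1] at hprod; omega
    · exact absurd ((eq_of_le_of_card_ge inf_le_left (by rw [hc, H.card]) : Z = Q).ge hd) hdZ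
  have hQp : IsPGroup 2 Q := IsPGroup.of_card (n := 5) (by rw [H.card]; norm_num)
  have hsqK : ∀ a ∈ Q, a * a ∈ zpowers v := by
    intro a ha
    rw [← hZc]
    refine hmemZ.2 ⟨mul_mem ha ha, fun q hq => ?_⟩
    have e : cm (a * a) q = 1 := by
      rw [show cm (a * a) q = a * cm a q * a⁻¹ * cm a q by simp only [cm]; group,
        H.k_conj (H.cm_mem ha hq) ha, hcmsq ha hq]
    rw [cm, mul_inv_eq_one, mul_inv_eq_iff_eq_mul] at e
    exact e.symm
  set v' : Q := ⟨v, H.memv⟩
  have key : ∀ a : Q, (a : G) ∈ zpowers v → a ∈ zpowers v' := by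
    intro a ha
    obtain ⟨n, hn⟩ := mem_zpowers_iff.1 ha
    exact mem_zpowers_iff.2 ⟨n, Subtype.ext (by rw [coe_zpow]; exact hn)⟩
  have hcard : Nat.card (zpowers v') = 2 := by
    rw [Nat.card_zpowers, ← orderOf_coe]; exact H.ordv
  have hcen : center ↥Q = zpowers v' := by
    refine le_antisymm (fun a ha => key a ?_) (zpowers_le.2 (mem_center_iff.2 fun g =>
      Subtype.ext (H.cent g g.2).symm.eq))
    rw [← hZc]
    exact hmemZ.2 ⟨a.2, fun q hq => congrArg Subtype.val (mem_center_iff.1 ha ⟨q, hq⟩)⟩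
  have hder : _root_.commutator ↥Q = zpowers v' := by
    have hle : _root_.commutator ↥Q ≤ zpowers v' := by
      rw [_root_.commutator_def, commutator_le]
      intro a _ b _
      refine key _ ?_
      simpa [commutatorElement_def, cm] using H.cm_mem a.2 b.2
    refine le_antisymm hle (zpowers_le.2 ?_)
    have hmem : (⁅(⟨d, hd⟩ : Q), (⟨k, hk⟩ : Q)⁆ : Q) ∈ _root_.commutator ↥Q := by
      rw [_root_.commutator_def]
      exact commutator_mem_commutator (mem_top _) (mem_top _)
    have hne : cm d k ≠ 1 := fun e => hdk (by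
      rw [cm, mul_inv_eq_one, mul_inv_eq_iff_eq_mul] at e; exact e)
    have hv : cm d k = v := (H.mem_k.1 (H.cm_mem hd hk)).resolve_left hne
    have e : v' = ⁅(⟨d, hd⟩ : Q), (⟨k, hk⟩ : Q)⁆ := Subtype.ext (by
      show v = _
      simp only [commutatorElement_def, Subgroup.coe_mul, Subgroup.coe_inv]
      exact hv.symm)
    rw [e]; exact hmem
  have hfr : frattini ↥Q = zpowers v' := by
    haveI : (zpowers v').Normal := hcen ▸ inferInstance
    refine le_antisymm (H6.frattini_le_of_quotient (p := 2) _ hder.le fun a => key _ ?_)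
      (hder ▸ H6.commutator_le_frattini hQp)
    rw [SubgroupClass.coe_pow, pow_two]; exact hsqK a a.2
  exact ⟨⟨hQp, hfr.trans hcen.symm, hder.trans hcen.symm⟩, by rw [hcen, hcard]⟩

end Fpf

end H37.MTwelveNse
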