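import Cfsg.Agent.H37.MTwelveNse.Inverted
import Cfsg.Agent.H37.MTwelveNse.Fpf
import Cfsg.Agent.S3344

/-! From the counts and the centraliser of order 240 to M12. -/

set_option autoImplicit false
set_option linter.style.haveILetI false

namespace H37.MTwelveNse

open Subgroup Equiv
open scoped Pointwise
open H78.M22R (cnt cz mem_cz card_cz_conj orderOf_conj' card_class_mul exists_orderOf isPGroup_zpowers
  commute_conj_iff card_sup_eq)

theorem perm_facts : (swap 0 1 * swap 2 3 : Perm (Fin 5)) * (swap 0 1 * swap 2 3) = 1 ∧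
    (swap 0 1 * swap 2 3 : Perm (Fin 5)) ≠ 1 ∧ Perm.sign (swap 0 1 * swap 2 3 : Perm (Fin 5)) = 1 ∧
    (swap 0 1 * swap 2 3 : Perm (Fin 5)) ≠ dbl ∧
    (swap 0 1 * swap 2 3) * dbl = dbl * (swap 0 1 * swap 2 3) ∧
    ∃ ε : Perm (Fin 5), ε * dbl = dbl * ε ∧
      (swap 0 1 * swap 2 3) * ε ≠ ε * (swap 0 1 * swap 2 3) := by
  unfold dbl; decide +kernel

variable {G : Type*} [Group G] [Finite G]

omit [Finite G] in
theorem mem_zpowers_two {a g : G} (ha : orderOf a = 2) (hg : g ∈ zpowers a) : g = 1 ∨ g = a := by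
  obtain ⟨n, rfl⟩ := mem_zpowers_iff.1 hg
  rw [← zpow_mod_orderOf, ha]
  rcases Int.emod_two_eq_zero_or_one n with h | h
  · left; rw [show n % ((2 : ℕ) : ℤ) = 0 from h, zpow_zero]
  · right; rw [show n % ((2 : ℕ) : ℤ) = 1 from h, zpow_one]

namespace Setting

variable (S : Setting G)

theorem card_six (F : Facts G) {x : G} (hx : orderOf x = 3) (hxv : Commute x S.v) :
    Nat.card (cz x ⊓ cz S.v : Subgroup G) = 6 := by
  rw [← S.card_cent_L hxv]
  have ho : orderOf (⟨x, mem_cz.2 hxv⟩ : cz S.v) = 3 := (orderOf_mk _ _).trans hx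
  exact S.inverted_six F ho (S.exists_inverter_L F ho)

/-- An involution other than `v` commuting with `v` commutes with no element of order three there. -/
theorem no_second (F : Facts G) {x a : G} (hx : orderOf x = 3) (hxv : Commute x S.v) (ha : orderOf a = 2)
    (hav : Commute a S.v) (hax : Commute a x) : a = S.v := by
  by_contra hne
  have hd : zpowers a ⊓ zpowers S.v = ⊥ := by
    rw [eq_bot_iff]
    rintro g ⟨h1, h2⟩
    rcases mem_zpowers_two ha h1 with e | e
    · exact mem_bot.2 e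
    · rcases mem_zpowers_two S.hv h2 with e' | e'
      · exact mem_bot.2 e'
      · exact absurd (e.symm.trans e') hne
  have h := Subgroup.card_dvd_of_le (show zpowers a ⊔ zpowers S.v ≤ cz x ⊓ cz S.v from sup_le
    (zpowers_le.2 (mem_inf.2 ⟨mem_cz.2 hax, mem_cz.2 hav⟩))
    (zpowers_le.2 (mem_inf.2 ⟨mem_cz.2 hxv.symm, mem_cz.2 (Commute.refl _)⟩)))
  rw [card_sup_eq (zpowers_le.2 (centralizer_le_normalizer _ (mem_centralizer_iff.2 fun g hg => by
      obtain ⟨k, rfl⟩ := mem_zpowers_iff.1 hg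
      exact (hav.zpow_left k).eq))) hd, Nat.card_zpowers, Nat.card_zpowers, ha, S.hv,
    S.card_six F hx hxv] at h
  norm_num at h

/-- The conjugates of `v` commuting with `t`. -/
theorem card_D_t (F : Facts G) : Nat.card {b : G // IsConj S.v b ∧ Commute S.t b} = 15 := by
  classical
  rw [← perm_count_dbl, ← Fintype.card_subtype, ← Nat.card_eq_fintype_card]
  choose pr hpr using fun b : {b : G // IsConj S.v b ∧ Commute S.t b} =>
    S.c.exists_of_mem (mem_cz.2 b.2.2.symm)
  have hinv : ∀ b : {b : G // IsConj S.v b ∧ Commute S.t b}, orderOf b.1 = 2 := fun b => by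
    obtain ⟨g, hg⟩ := isConj_iff.1 b.2.1; rw [← hg, orderOf_conj', S.hv]
  have hprop : ∀ b, pr b * pr b = 1 ∧ pr b ≠ 1 ∧ Perm.sign (pr b) = 1 := by
    intro b
    have hb2 : b.1 * b.1 = 1 := by rw [← pow_two, ← hinv b, pow_orderOf_eq_one]
    have h2 : pr b * pr b = 1 :=
      S.c.im_unique (S.c.im_mul (hpr b) (hpr b)) (by rw [hb2]; exact S.c.im_one)
    refine ⟨h2, fun h => ?_, ?_⟩
    · rcases S.c.im_cases (h ▸ hpr b) with e | e
      · have := hinv b; rw [e, orderOf_one] at this; exact absurd this (by norm_num)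
      · exact S.not_conj ((e ▸ b.2.1).symm)
    · by_contra hs
      obtain ⟨ξ, hξ3, hξ1, hξc⟩ := perm_odd_three _ h2 hs
      obtain ⟨x, hx, hxo⟩ := S.c.exists_odd_lift Nat.prime_three (by norm_num)
        (by rw [pow_succ, pow_two]; exact hξ3) hξ1
      have hcomm : Commute b.1 x := by
        refine mul_inv_eq_iff_eq_mul.1 (S.c.odd_unique (S.c.im_conj (hpr b) hx) ?_
          (by rw [orderOf_conj', hxo]; decide) (by rw [hxo]; decide))
        rw [show pr b * ξ * (pr b)⁻¹ = ξ by rw [hξc, mul_inv_cancel_right]]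
        exact hx
      obtain ⟨g, hg⟩ := isConj_iff.1 b.2.1
      have hback : ∀ y : G, g * (g⁻¹ * y * g) * g⁻¹ = y := fun y => by group
      have ho : ∀ y : G, orderOf (g⁻¹ * y * g) = orderOf y := fun y => by
        rw [← orderOf_conj' g (g⁻¹ * y * g), hback]
      have := S.no_second F (x := g⁻¹ * x * g) (a := g⁻¹ * S.t * g) (by rw [ho, hxo])
        ((commute_conj_iff g _ _).1 (by rw [hback, hg]; exact hcomm.symm))
        (by rw [ho]; exact S.c.inv)
        ((commute_conj_iff g _ _).1 (by rw [hback, hg]; exact b.2.2))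
        ((commute_conj_iff g _ _).1 (by rw [hback, hback]; exact (S.c.commute_im hx).symm))
      exact S.not_conj (isConj_iff.2 ⟨g⁻¹, by rw [inv_inv]; exact this⟩)
  have hlift : ∀ (σ : Perm (Fin 5)), σ * σ = 1 → σ ≠ 1 → Perm.sign σ = 1 →
      ∃ a, a ∈ cz S.t ∧ S.c.Im (a * S.v * a⁻¹) σ := by
    intro σ h h1 hs
    obtain ⟨τ, hτ⟩ := perm_dbl σ h h1 hs
    obtain ⟨a, ha⟩ := S.c.exists_im τ
    exact ⟨a, ha.1, hτ ▸ S.c.im_conj ha S.imv⟩
  refine Nat.card_eq_of_bijective (fun b => ⟨pr b, hprop b⟩) ⟨?_, ?_⟩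
  · intro b b' e
    have e' : pr b = pr b' := congrArg Subtype.val e
    obtain ⟨a, ha, him⟩ := hlift _ (hprop b).1 (hprop b).2.1 (hprop b).2.2
    have hkey : ∀ c : {b : G // IsConj S.v b ∧ Commute S.t b}, pr c = pr b → c.1 = a * S.v * a⁻¹ := by
      intro c hc
      rcases S.c.im_eq (hpr c) (hc ▸ him) with e1 | e1
      · exact e1
      · exfalso
        have hu : c.1 = a * S.u * a⁻¹ := by
          rw [e1, S.veq, mul_assoc (a * (S.u * S.t)), ← (S.c.commute_im (S.c.im_inv
            (show S.c.Im a (S.c.π ⟨a, ha⟩) from ⟨ha, rfl⟩))).symm.eq]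
          rw [show a * (S.u * S.t) * (S.t * a⁻¹) = a * S.u * (S.t * S.t) * a⁻¹ by group, S.c.sq_t,
            mul_one]
        exact S.not_conj ((S.hu.trans (isConj_iff.2 ⟨a, hu.symm⟩)).trans c.2.1.symm)
    exact Subtype.ext ((hkey b rfl).trans (hkey b' e'.symm).symm)
  · rintro ⟨σ, h, h1, hs⟩
    obtain ⟨a, ha, him⟩ := hlift σ h h1 hs
    refine ⟨⟨a * S.v * a⁻¹, isConj_iff.2 ⟨a, rfl⟩, (S.c.commute_im him).symm⟩, Subtype.ext ?_⟩
    exact S.c.im_unique (hpr _) him

theorem card_A_v (F : Facts G) : Nat.card {a : G // IsConj S.t a ∧ Commute S.v a} = 12 := by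
  have h1 := card_pairs_class (IsConj S.t) (IsConj S.v) (fun g a ha => ha.trans (isConj_iff.2 ⟨g, rfl⟩))
    (a₀ := S.t) (fun a => Iff.rfl)
  have h2 := card_pairs_class (IsConj S.v) (IsConj S.t) (fun g a ha => ha.trans (isConj_iff.2 ⟨g, rfl⟩))
    (a₀ := S.v) (fun a => Iff.rfl)
  have e : Nat.card {p : G × G // IsConj S.t p.1 ∧ IsConj S.v p.2 ∧ Commute p.1 p.2} =
      Nat.card {p : G × G // IsConj S.v p.1 ∧ IsConj S.t p.2 ∧ Commute p.1 p.2} :=
    Nat.card_congr
      { toFun := fun p => ⟨(p.1.2, p.1.1), p.2.2.1, p.2.1, p.2.2.2.symm⟩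
        invFun := fun p => ⟨(p.1.2, p.1.1), p.2.2.1, p.2.1, p.2.2.2.symm⟩
        left_inv := fun p => rfl
        right_inv := fun p => rfl }
  rw [e, h2, S.card_D_t F, S.class_t F, S.class_v F] at h1
  omega

/-- What commutes with both. -/
theorem mem_both_iff {g : G} :
    g ∈ cz S.t ⊓ cz S.v ↔ ∃ σ, S.c.Im g σ ∧ σ * dbl = dbl * σ := by
  constructor
  · intro hg
    obtain ⟨σ, hσ⟩ := S.c.exists_of_mem (mem_inf.1 hg).1
    exact ⟨σ, hσ, S.c.im_unique (S.c.im_mul hσ S.imv)
      ((mem_cz.1 (mem_inf.1 hg).2).eq.symm ▸ S.c.im_mul S.imv hσ)⟩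
  · rintro ⟨σ, hσ, hc⟩
    refine mem_inf.2 ⟨hσ.1, mem_cz.2 ?_⟩
    have him : S.c.Im (g * S.v * g⁻¹) dbl := by
      have := S.c.im_conj hσ S.imv
      rwa [show σ * dbl * σ⁻¹ = dbl by rw [hc, mul_inv_cancel_right]] at this
    rcases S.c.im_eq him S.imv with e | e
    · exact mul_inv_eq_iff_eq_mul.1 e
    · exfalso
      rw [S.veq, mul_assoc S.u, S.c.sq_t, mul_one] at e
      exact S.not_conj (S.hu.trans (isConj_iff.2 ⟨g, by rw [S.veq]; exact e⟩).symm)

theorem card_both : Nat.card (cz S.t ⊓ cz S.v : Subgroup G) = 16 := by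
  classical
  have e : (cz S.t ⊓ cz S.v : Subgroup G) =
      ((Subgroup.centralizer ({dbl} : Set (Perm (Fin 5)))).comap S.c.π).map (cz S.t).subtype := by
    ext g
    rw [S.mem_both_iff]
    constructor
    · rintro ⟨σ, ⟨h, hh⟩, hc⟩
      exact ⟨⟨g, h⟩, mem_centralizer_singleton_iff.2 (hh ▸ hc), rfl⟩
    · rintro ⟨a, ha, rfl⟩
      exact ⟨_, ⟨a.2, rfl⟩, mem_centralizer_singleton_iff.1 ha⟩
  rw [e, card_map_of_injective (cz S.t).subtype_injective]
  have h8 : Nat.card (Subgroup.centralizer ({dbl} : Set (Perm (Fin 5)))) = 8 := by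
    rw [Nat.card_eq_fintype_card, ← perm_dbl_cent, Fintype.card_subtype]
    exact congrArg Finset.card (Finset.filter_congr fun σ _ => mem_centralizer_singleton_iff)
  have h := (((Subgroup.centralizer ({dbl} : Set (Perm (Fin 5)))).comap S.c.π)).card_mul_index
  rw [Subgroup.index_comap_of_surjective _ S.c.surj, S.c.card] at h
  have h' := (Subgroup.centralizer ({dbl} : Set (Perm (Fin 5)))).card_mul_index
  rw [h8, Nat.card_perm, Nat.card_fin] at h'
  norm_num [Nat.factorial] at h'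
  have h15 : (Subgroup.centralizer ({dbl} : Set (Perm (Fin 5)))).index = 15 := by omega
  rw [h15] at h; omega

/-- All conjugates of `t` commuting with `v` are conjugate under the centraliser of `v`. -/
theorem orbit_t (F : Facts G) {a : G} (ha : IsConj S.t a) (hav : Commute S.v a) :
    ∃ g ∈ cz S.v, g * S.t * g⁻¹ = a := by
  classical
  let t' : cz S.v := ⟨S.t, mem_cz.2 S.commute_vt.symm⟩
  have hcard : Nat.card {y : cz S.v // IsConj t' y} = 12 := by
    have h := card_class_mul t'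
    rw [S.cardv, S.card_cent_L S.commute_vt.symm, S.card_both] at h
    omega
  let f : {y : cz S.v // IsConj t' y} → {a : G // IsConj S.t a ∧ Commute S.v a} := fun y =>
    ⟨y.1.1, by
      obtain ⟨g, hg⟩ := isConj_iff.1 y.2
      exact isConj_iff.2 ⟨g, congrArg Subtype.val hg⟩, (mem_cz.1 y.1.2).symm⟩
  have hf : Function.Bijective f := by
    refine (Nat.bijective_iff_injective_and_card f).2 ⟨fun p q e => ?_, by rw [hcard, S.card_A_v F]⟩
    exact Subtype.ext (Subtype.ext (congrArg Subtype.val e :))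
  obtain ⟨⟨y, hy⟩, e⟩ := hf.2 ⟨a, ha, hav⟩
  obtain ⟨g, hg⟩ := isConj_iff.1 hy
  exact ⟨g, g.2, (congrArg Subtype.val hg).trans (congrArg Subtype.val e)⟩

/-- The map of the centraliser of `v` onto the symmetric group of degree three. -/
theorem exists_quot (F : Facts G) :
    Nonempty (↥(cz S.v) ⧸ Cfsg.pCore 2 ↥(cz S.v) ≃* Perm (Fin 3)) ∧
      Nat.card (Cfsg.pCore 2 ↥(cz S.v)) = 32 ∧ IsPGroup 2 (Cfsg.pCore 2 ↥(cz S.v)) ∧
      (Cfsg.pCore 2 ↥(cz S.v)).Normal ∧
      ∀ N : Subgroup ↥(cz S.v), N.Normal → IsPGroup 2 N → N ≤ Cfsg.pCore 2 ↥(cz S.v) := by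
  classical
  haveI : Fact (Nat.Prime 2) := ⟨Nat.prime_two⟩
  haveI : Fact (Nat.Prime 3) := ⟨Nat.prime_three⟩
  let L := ↥(cz S.v)
  obtain ⟨x, hx⟩ := exists_prime_orderOf_dvd_card' (G := L) 3 (by rw [S.cardv]; norm_num)
  obtain ⟨b, hb⟩ := isConj_iff.1 (S.exists_inverter_L F hx)
  let P : Sylow 2 L := default
  have hP : Nat.card (P : Subgroup L) = 64 := by
    rw [Sylow.card_eq_multiplicity, S.cardv, show (192 : ℕ) = 2 ^ 6 * 3 by norm_num,
      Nat.factorization_mul (by norm_num) (by norm_num), Finsupp.add_apply, Nat.factorization_pow,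
      Finsupp.smul_apply, Nat.Prime.factorization_self Nat.prime_two,
      Nat.factorization_eq_zero_of_not_dvd (by norm_num)]
    norm_num
  have hno : ∀ N : Subgroup L, N.Normal → Nat.card N = 64 → False := by
    intro N hN hc
    have hq : Nat.card (L ⧸ N) = 3 := by
      have h := N.card_eq_card_quotient_mul_card_subgroup
      rw [S.cardv, hc] at h; omega
    haveI : IsCyclic (L ⧸ N) := isCyclic_of_prime_card (p := 3) hq
    have h1 : (QuotientGroup.mk (b * x * b⁻¹) : L ⧸ N) = QuotientGroup.mk x := by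
      rw [QuotientGroup.mk_mul, QuotientGroup.mk_mul, QuotientGroup.mk_inv, mul_inv_eq_iff_eq_mul]
      exact (IsCyclic.isMulCommutative (α := L ⧸ N)).is_comm.comm _ _
    rw [hb, QuotientGroup.eq, inv_inv] at h1
    have h3 : orderOf (x * x) = 3 := by
      rw [← pow_two, orderOf_pow' _ (by norm_num), hx]; norm_num
    have := Subgroup.orderOf_dvd_natCard N h1
    rw [h3, hc] at this
    norm_num at this
  have hn2 : Nat.card (Sylow 2 L) = 3 := by
    have h1 : Nat.card (Sylow 2 L) ∣ 3 := by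
      have h := (P : Subgroup L).card_mul_index
      rw [hP, S.cardv] at h
      have hi : (P : Subgroup L).index = 3 := by omega
      exact hi ▸ P.card_dvd_index
    rcases (Nat.dvd_prime Nat.prime_three).1 h1 with h | h
    · exfalso
      haveI : Subsingleton (Sylow 2 L) := (Nat.card_eq_one_iff_unique.1 h).1
      exact hno _ P.normal_of_subsingleton hP
    · exact h
  let eS : Sylow 2 L ≃ Fin 3 := Finite.equivFinOfCardEq hn2
  let φ : L →* Perm (Fin 3) := eS.permCongrHom.toMonoidHom.comp (MulAction.toPermHom L (Sylow 2 L))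
  have hkerle : ∀ Q : Sylow 2 L, φ.ker ≤ normalizer ((Q : Subgroup L) : Set L) := by
    intro Q g hg
    have h1 : MulAction.toPermHom L (Sylow 2 L) g = 1 :=
      eS.permCongrHom.injective (hg.trans (map_one eS.permCongrHom).symm)
    exact Sylow.smul_eq_iff_mem_normalizer.1 (congrFun (congrArg (fun p : Perm _ => (p : _ → _)) h1) Q)
  have hrange : φ.ker.index = 6 := by
    have hd : φ.ker.index ∣ 6 := by
      rw [Subgroup.index_ker]
      have := φ.range.card_subgroup_dvd_card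
      rwa [Nat.card_perm, Nat.card_fin] at this
    have h3 : 3 ∣ φ.ker.index := by
      have h := Subgroup.index_dvd_of_le (hkerle P)
      have h' : Nat.card (Sylow 2 L) ∣ φ.ker.index := P.card_eq_index_normalizer.dvd.trans h
      exact hn2.symm.dvd.trans h'
    have hne : φ.ker.index ≠ 3 := fun h => hno φ.ker inferInstance (by
      have h' := φ.ker.card_mul_index
      rw [h, S.cardv] at h'; omega)
    have hle6 := Nat.le_of_dvd (by norm_num) hd
    generalize φ.ker.index = i at hd h3 hne hle6 ⊢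
    interval_cases i <;> omega
  have hker : Nat.card φ.ker = 32 := by
    have h := φ.ker.card_mul_index
    rw [hrange, S.cardv] at h; omega
  have hpk : IsPGroup 2 φ.ker := IsPGroup.of_card (n := 5) (by rw [hker]; norm_num)
  have hnormal : ∀ N : Subgroup L, N.Normal → IsPGroup 2 N → ∀ Q : Sylow 2 L, N ≤ (Q : Subgroup L) := by
    intro N hN hp Q
    have hle : ((Q : Subgroup L) ⊔ N : Subgroup L) = Q :=
      Q.3 (Q.2.to_sup_of_normal_right hp) le_sup_left
    exact le_sup_right.trans hle.le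
  have hle : ∀ N : Subgroup L, N.Normal → IsPGroup 2 N → N ≤ φ.ker := by
    intro N hN hp g hg
    have h1 : MulAction.toPermHom L (Sylow 2 L) g = 1 := by
      refine Equiv.ext fun Q => ?_
      exact Sylow.smul_eq_iff_mem_normalizer.2 (le_normalizer (hnormal N hN hp Q hg))
    show eS.permCongrHom (MulAction.toPermHom L (Sylow 2 L) g) = 1
    rw [h1, map_one]
  have hcore : Cfsg.pCore 2 L = φ.ker := le_antisymm (sSup_le fun N hN => hle N hN.1 hN.2)
    (le_sSup ⟨inferInstance, hpk⟩)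
  have hsurj : Function.Surjective φ := by
    rw [← MonoidHom.range_eq_top]
    refine Subgroup.eq_top_of_card_eq _ ?_
    rw [← Subgroup.index_ker, hrange, Nat.card_perm, Nat.card_fin]; rfl
  exact ⟨⟨(QuotientGroup.quotientMulEquivOfEq hcore).trans
    (QuotientGroup.quotientKerEquivOfSurjective φ hsurj)⟩, by rw [hcore, hker], by rw [hcore]; exact hpk,
    by rw [hcore]; infer_instance,
    fun N hN hp => by rw [hcore]; exact hle N hN hp⟩

include S in
theorem isoM12 (F : Facts G) : Cfsg.Spor.IsoM12 G := by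
  classical
  haveI : Fact (Nat.Prime 2) := ⟨Nat.prime_two⟩
  haveI : Fact (Nat.Prime 3) := ⟨Nat.prime_three⟩
  obtain ⟨⟨e⟩, hQc, hQp, hnorm, hQmax⟩ := S.exists_quot F
  let L : Subgroup G := cz S.v
  let Q : Subgroup G := (Cfsg.pCore 2 L).map L.subtype
  have hQL : Q ≤ L := map_subtype_le _
  have hQcard : Nat.card Q = 32 := by rw [card_map_of_injective L.subtype_injective, hQc]
  have hQpg : IsPGroup 2 Q := hQp.map L.subtype
  have hQconj : ∀ g ∈ L, ∀ q ∈ Q, g * q * g⁻¹ ∈ Q := by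
    rintro g hg _ ⟨q, hq, rfl⟩
    exact ⟨⟨g, hg⟩ * q * ⟨g, hg⟩⁻¹, hnorm.conj_mem q hq _, rfl⟩
  obtain ⟨x, hx⟩ := exists_prime_orderOf_dvd_card' (G := L) 3 (by rw [S.cardv]; norm_num)
  have hxo : orderOf (x : G) = 3 := (orderOf_coe x).trans hx
  have hxv : Commute (x : G) S.v := mem_cz.1 x.2
  have hvQ : S.v ∈ Q := by
    let v' : L := ⟨S.v, mem_cz.2 (Commute.refl _)⟩
    refine ⟨v', ?_, rfl⟩
    have hn : (zpowers v').Normal := ⟨fun k hk g => by
      obtain ⟨n, rfl⟩ := mem_zpowers_iff.1 hk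
      have hc : Commute g v' := Subtype.ext (mem_cz.1 g.2).eq
      rw [(hc.zpow_right n).eq, mul_inv_cancel_right]
      exact mem_zpowers_iff.2 ⟨n, rfl⟩⟩
    exact hQmax _ hn (isPGroup_zpowers ((orderOf_mk _ _).trans S.hv)) (mem_zpowers v')
  have hFpf : Fpf Q (x : G) S.v :=
    { card := hQcard
      ordx := hxo
      norm := hQconj x x.2
      ordv := S.hv
      memv := hvQ
      fixv := hxv.symm
      cent := fun q hq => (mem_cz.1 (hQL hq)).symm
      fix := by
        intro q hq hc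
        by_cases h1 : q = 1
        · exact Or.inl h1
        obtain ⟨k, hk⟩ := (IsPGroup.iff_orderOf.1 hQpg) ⟨q, hq⟩
        rw [orderOf_mk] at hk
        have hq2 := sq_of_commute_three F hxo hc hk
        exact Or.inr (S.no_second F hxo hxv (orderOf_eq_prime (by rw [pow_two, hq2]) h1)
          (mem_cz.1 (hQL hq)) hc) }
  -- an involution of `Q` conjugate to `v` and not central
  obtain ⟨hd2, hd1, hds, hdne, hdd, ε, hε, hεd⟩ := perm_facts
  obtain ⟨τ, hτ⟩ := perm_dbl _ hd2 hd1 hds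
  obtain ⟨a, ha⟩ := S.c.exists_im τ
  have hdim : S.c.Im (a * S.v * a⁻¹) (swap 0 1 * swap 2 3) := hτ ▸ S.c.im_conj ha S.imv
  set d := a * S.v * a⁻¹ with hdef
  obtain ⟨k, hk⟩ := S.c.exists_im ε
  have hboth : ∀ {g : G} {σ : Perm (Fin 5)}, S.c.Im g σ → σ * dbl = dbl * σ → g ∈ cz S.t ⊓ cz S.v :=
    fun h1 h2 => S.mem_both_iff.2 ⟨_, h1, h2⟩
  have hdv : d ∈ cz S.t ⊓ cz S.v := hboth hdim hdd
  have hkv : k ∈ cz S.t ⊓ cz S.v := hboth hk hε
  have hdk : ¬ Commute d k := fun h => hεd (S.c.im_unique (S.c.im_mul hdim hk) (h.eq.symm ▸ S.c.im_mul hk hdim))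
  have hdsq : d * d = 1 := by
    rw [hdef, show a * S.v * a⁻¹ * (a * S.v * a⁻¹) = a * (S.v * S.v) * a⁻¹ by group,
      ← pow_two, ← S.hv, pow_orderOf_eq_one, mul_one, mul_inv_cancel]
  -- two elements of the group of order 16 outside `Q` have their product inside
  have htwo : ∀ p q, p ∈ cz S.t ⊓ cz S.v → q ∈ cz S.t ⊓ cz S.v → p ∉ Q → q ∉ Q → p * q ∈ Q := by
    intro p q hp hq hpQ hqQ
    let M : Subgroup L := (cz S.t ⊓ cz S.v).subgroupOf L
    let π : L →* Perm (Fin 3) := (e.toMonoidHom).comp (QuotientGroup.mk' (Cfsg.pCore 2 L))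
    have hker : ∀ g : L, π g = 1 ↔ (g : G) ∈ Q := fun g => by
      show e (QuotientGroup.mk g) = 1 ↔ _
      rw [MulEquiv.map_eq_one_iff, QuotientGroup.eq_one_iff]
      exact (mem_map_iff_mem L.subtype_injective).symm
    have hM2 : Nat.card (M.map π) ∣ 2 := by
      have h1 : Nat.card (M.map π) ∣ 16 := by
        rw [← S.card_both, ← Nat.card_congr (subgroupOfEquivOfLe (inf_le_right : cz S.t ⊓ cz S.v ≤ L)).toEquiv]
        exact Subgroup.card_map_dvd _ _
      have h2 : Nat.card (M.map π) ∣ 6 := by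
        have := (M.map π).card_subgroup_dvd_card
        rwa [Nat.card_perm, Nat.card_fin] at this
      exact (Nat.dvd_gcd h1 h2).trans (by norm_num)
    let p' : L := ⟨p, (mem_inf.1 hp).2⟩
    let q' : L := ⟨q, (mem_inf.1 hq).2⟩
    have hp1 : π p' ≠ 1 := fun h => hpQ ((hker p').1 h)
    have hq1 : π q' ≠ 1 := fun h => hqQ ((hker q').1 h)
    have hpM : π p' ∈ M.map π := ⟨p', mem_subgroupOf.2 hp, rfl⟩
    have hqM : π q' ∈ M.map π := ⟨q', mem_subgroupOf.2 hq, rfl⟩
    refine (hker (p' * q')).1 ?_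
    have hcard := Nat.le_of_dvd (by norm_num) hM2
    haveI := Fintype.ofFinite (M.map π)
    rw [Nat.card_eq_fintype_card] at hcard
    by_contra hne
    have hne' : π p' * π q' ≠ 1 := by rw [← map_mul]; exact hne
    have hpq : π p' * π q' ∈ M.map π := mul_mem hpM hqM
    have : ({⟨1, one_mem _⟩, ⟨π p', hpM⟩, ⟨_, hpq⟩} : Finset (M.map π)).card ≤ 2 :=
      (Finset.card_le_univ _).trans hcard
    rw [Finset.card_insert_of_notMem, Finset.card_insert_of_notMem, Finset.card_singleton] at this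
    · omega
    · simp only [Finset.mem_singleton, Subtype.mk.injEq]; exact fun h => hq1 (left_eq_mul.1 h)
    · simp only [Finset.mem_insert, Finset.mem_singleton, Subtype.mk.injEq, not_or]
      exact ⟨Ne.symm hp1, Ne.symm hne'⟩
  have htv : S.t ∈ cz S.t ⊓ cz S.v := mem_inf.2 ⟨mem_cz.2 (Commute.refl _), mem_cz.2 S.commute_vt.symm⟩
  obtain ⟨hdQ, k', hk', hdk'⟩ : d ∈ Q ∧ ∃ k' ∈ Q, ¬ Commute d k' := by
    by_cases htQ : S.t ∈ Q
    · have hconj : ∀ q ∈ Q, q * S.t * q⁻¹ = S.t ∨ q * S.t * q⁻¹ = S.v * S.t := by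
        intro q hq
        have h := hFpf.cm_mem hq htQ
        rcases hFpf.mem_k.1 h with h' | h'
        · exact Or.inl (mul_inv_eq_one.1 h')
        · exact Or.inr (mul_inv_eq_iff_eq_mul.1 h')
      have hcent : 16 ≤ Nat.card (Q ⊓ cz S.t : Subgroup G) := by
        have hle : Nat.card {y : Q // IsConj (⟨S.t, htQ⟩ : Q) y} ≤ 2 := by
          haveI := Fintype.ofFinite Q
          rw [Nat.card_eq_fintype_card, Fintype.card_subtype]
          refine (Finset.card_le_card (t := {(⟨S.t, htQ⟩ : Q), ⟨S.v * S.t, mul_mem hvQ htQ⟩}) ?_).trans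
            Finset.card_le_two
          intro y hy
          obtain ⟨c, rfl⟩ := isConj_iff.1 (Finset.mem_filter.1 hy).2
          simp only [Finset.mem_insert, Finset.mem_singleton]
          rcases hconj c c.2 with h | h
          · exact Or.inl (Subtype.ext h)
          · exact Or.inr (Subtype.ext h)
        have h := card_class_mul (⟨S.t, htQ⟩ : Q)
        have h2 : Nat.card (cz (⟨S.t, htQ⟩ : Q)) = Nat.card (Q ⊓ cz S.t : Subgroup G) := Nat.card_congr
          { toFun := fun g => ⟨g.1.1, mem_inf.2 ⟨g.1.2, mem_cz.2 (congrArg Subtype.val (mem_cz.1 g.2).eq)⟩⟩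
            invFun := fun g => ⟨⟨g.1, (mem_inf.1 g.2).1⟩, mem_cz.2 (Subtype.ext (mem_cz.1 (mem_inf.1 g.2).2).eq)⟩
            left_inv := fun g => rfl
            right_inv := fun g => rfl }
        rw [hQcard, h2] at h
        by_contra hlt
        have := Nat.mul_le_mul hle (show Nat.card (Q ⊓ cz S.t : Subgroup G) ≤ 15 by omega)
        omega
      have heq : (cz S.t ⊓ cz S.v : Subgroup G) ≤ Q := by
        have : (Q ⊓ cz S.t : Subgroup G) = cz S.t ⊓ cz S.v := eq_of_le_of_card_ge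
          (le_inf inf_le_right (inf_le_left.trans hQL)) (by rw [S.card_both]; exact hcent)
        exact this ▸ inf_le_left
      exact ⟨heq hdv, k, heq hkv, hdk⟩
    · have hd : d ∈ Q := by
        by_contra hd
        have he : d * S.t ∈ Q := htwo _ _ hdv htv hd htQ
        have hA : IsConj S.t (d * S.t) := by
          refine S.hu.trans (isConj_iff.2 ⟨a, ?_⟩)
          rw [hdef, S.veq]
          have := (S.c.commute_im (S.c.im_inv ha)).eq
          simp only [mul_assoc, this]
          rw [show S.u * (S.t * (S.t * a⁻¹)) = S.u * ((S.t * S.t) * a⁻¹) by group, S.c.sq_t, one_mul]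
        obtain ⟨g, hg, hge⟩ := S.orbit_t F hA (mem_cz.1 (mul_mem hdv htv : _ ∈ cz S.t ⊓ cz S.v).2).symm
        refine htQ ?_
        have := hQconj g⁻¹ (inv_mem hg) _ he
        rwa [← hge, show g⁻¹ * (g * S.t * g⁻¹) * g⁻¹⁻¹ = S.t by group] at this
      by_cases hkQ : k ∈ Q
      · exact ⟨hd, k, hkQ, hdk⟩
      · refine ⟨hd, k * S.t, htwo _ _ hkv htv hkQ htQ, fun h => hdk ?_⟩
        have hdt : Commute d S.t := mem_cz.1 (mem_inf.1 hdv).1
        have := h.mul_right hdt
        rwa [mul_assoc, S.c.sq_t, mul_one] at this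
  have hext : Cfsg.IsExtraspecial 2 Q := hFpf.extraspecial hdQ hdsq hk' hdk'
  obtain ⟨X, hX⟩ : ∃ X : Sylow 3 L, (X : Subgroup L) = zpowers x := S.order_three_sylow hx
  have hCQX : Q ⊓ centralizer (((X : Subgroup L).map L.subtype : Subgroup G) : Set G) = zpowers S.v := by
    rw [hX, MonoidHom.map_zpowers, coe_subtype, zpowers_eq_closure, centralizer_closure]
    refine le_antisymm (fun q hq => hFpf.mem_k.2 (hFpf.fix q (mem_inf.1 hq).1 (mem_cz.1 (mem_inf.1 hq).2)))
      (zpowers_le.2 (mem_inf.2 ⟨hvQ, mem_cz.2 hxv.symm⟩))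
  have hnwc : ∃ g : G, g * S.v * g⁻¹ ∈ Q ∧ g * S.v * g⁻¹ ≠ S.v := by
    exact ⟨a, hdQ, fun h => hdne (S.c.im_unique hdim (show S.c.Im d dbl by rw [hdef, h]; exact S.imv))⟩
  rcases Cfsg.Agent.S3344.result S.v S.hv L rfl Q rfl hext hQcard e X hCQX hnwc with
    ⟨N, hN, -, -, hN8, -⟩ | ⟨⟨i⟩⟩ | ⟨⟨i⟩⟩ | h
  · exfalso
    rcases F.simple.eq_bot_or_eq_top_of_normal N hN with rfl | rfl
    · rw [Subgroup.card_bot] at hN8; exact absurd hN8 (by norm_num)
    · rw [Subgroup.card_top, F.card] at hN8; exact absurd hN8 (by norm_num)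
  · exfalso
    have := Nat.card_congr i.toEquiv
    rw [F.card, nat_card_alternatingGroup, Nat.card_fin] at this
    norm_num [Nat.factorial] at this
  · exfalso
    have := Nat.card_congr i.toEquiv
    rw [F.card, nat_card_alternatingGroup, Nat.card_fin] at this
    norm_num [Nat.factorial] at this
  · exact h

end Setting

/-- A group with the counts of M12 is M12, given the centraliser of order 240. -/
theorem isoM12_of_facts (F : Facts G) (hA : CentA G) : Cfsg.Spor.IsoM12 G :=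
  (exists_setting F hA).elim fun S => S.isoM12 F

end H37.MTwelveNse
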