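import Cfsg.Agent.H37.MTwelveNse.Three

/-! Elements of order three are inverted inside the centraliser of order 192. -/

set_option autoImplicit false
set_option linter.style.haveILetI false

namespace H37.MTwelveNse

open Subgroup Equiv
open scoped Pointwise
open H78.M22R (cnt cz mem_cz card_cz_conj orderOf_conj' card_class_mul exists_orderOf isPGroup_zpowers
  commute_conj_iff card_sup_eq)

variable {G : Type*} [Group G] [Finite G]

/-- A 2-element commuting with an element of order three squares to one. -/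
theorem sq_of_commute_three (F : Facts G) {x w : G} (hx : orderOf x = 3) (hc : Commute w x) {k : ℕ}
    (hw : orderOf w = 2 ^ k) : w * w = 1 := by
  have ho : orderOf (w * x) = 2 ^ k * 3 := by
    rw [hc.orderOf_mul_eq_mul_orderOf_of_coprime, hw, hx]
    rw [hw, hx]; exact Nat.Coprime.pow_left k (by norm_num)
  have h := F.orders (w * x)
  rw [ho] at h
  have hk : k ≤ 1 := by
    by_contra hk
    obtain ⟨j, rfl⟩ : ∃ j, k = j + 2 := ⟨k - 2, by omega⟩
    have hp : 0 < 2 ^ j := by positivity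
    simp only [Finset.mem_insert, Finset.mem_singleton, pow_add] at h
    omega
  rw [← pow_two, ← orderOf_dvd_iff_pow_eq_one, hw]
  exact (pow_dvd_pow 2 hk).trans (by norm_num)

theorem two_group_facts (F : Facts G) {x : G} (hx : orderOf x = 3) {P : Subgroup G}
    (hP : IsPGroup 2 P) (hle : P ≤ cz x) :
    (∀ a ∈ P, a * a = 1) ∧ ∀ a ∈ P, ∀ b ∈ P, Commute a b := by
  haveI : Fact (Nat.Prime 2) := ⟨Nat.prime_two⟩
  have h1 : ∀ a ∈ P, a * a = 1 := by
    intro a ha
    obtain ⟨k, hk⟩ := (IsPGroup.iff_orderOf.1 hP) ⟨a, ha⟩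
    rw [orderOf_mk] at hk
    exact sq_of_commute_three F hx (mem_cz.1 (hle ha)) hk
  refine ⟨h1, fun a ha b hb => ?_⟩
  have h := inv_eq_of_mul_eq_one_right (h1 _ (mul_mem ha hb))
  rw [mul_inv_rev, inv_eq_of_mul_eq_one_right (h1 a ha), inv_eq_of_mul_eq_one_right (h1 b hb)] at h
  exact h.symm

namespace Setting

variable (S : Setting G)

/-- An element of order three commuting with two commuting involutions, the first a conjugate of `t`,
is inverted by an element commuting with the second. -/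
theorem inverter {a s x : G} (ha : IsConj S.t a) (hs : orderOf s = 2) (hne : s ≠ a)
    (has : Commute a s) (hx : orderOf x = 3) (hxa : Commute x a) (hxs : Commute x s) :
    ∃ b : G, b * x * b⁻¹ = x⁻¹ ∧ Commute b s := by
  obtain ⟨g, rfl⟩ := isConj_iff.1 ha
  have hback : ∀ y : G, g * (g⁻¹ * y * g) * g⁻¹ = y := fun y => by group
  have hvu : S.u * S.t = S.v := S.veq.symm
  obtain ⟨b, hb1, hb2, -⟩ := S.c.exists_inverter S.imu S.orderOf_u (hvu ▸ S.hv)
    (x := g⁻¹ * x * g) (s := g⁻¹ * s * g)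
    ((commute_conj_iff g _ _).1 (by rw [hback]; exact hxa))
    ((commute_conj_iff g _ _).1 (by rw [hback]; exact has.symm))
    (by rw [← hx, ← orderOf_conj' g (g⁻¹ * x * g), hback])
    (by rw [← hs, ← orderOf_conj' g (g⁻¹ * s * g), hback])
    (fun e => hne (by rw [← hback s, e]))
    ((commute_conj_iff g _ _).1 (by rw [hback, hback]; exact hxs))
  refine ⟨g * b * g⁻¹, ?_, ?_⟩
  · have := congrArg (fun y => g * y * g⁻¹) hb1
    simp only [mul_inv_rev, inv_inv, mul_assoc, mul_inv_cancel_left, inv_mul_cancel_left] at this ⊢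
    simpa using this
  · have := (commute_conj_iff g b (g⁻¹ * s * g)).2 hb2
    rwa [hback] at this

theorem order_three_sylow {y : cz S.v} (hy : orderOf y = 3) :
    ∃ P : Sylow 3 (cz S.v), (P : Subgroup (cz S.v)) = zpowers y := by
  haveI : Fact (Nat.Prime 3) := ⟨Nat.prime_three⟩
  refine ⟨Sylow.ofCard (zpowers y) ?_, rfl⟩
  rw [Nat.card_zpowers, hy, S.cardv, show (192 : ℕ) = 3 * 64 by norm_num,
    Nat.factorization_mul (by norm_num) (by norm_num), Finsupp.add_apply,
    Nat.Prime.factorization_self Nat.prime_three, Nat.factorization_eq_zero_of_not_dvd (by norm_num)]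
  norm_num

/-- In the centraliser any two elements of order three are conjugate up to inversion. -/
theorem conj_or_inv {x y : cz S.v} (hx : orderOf x = 3) (hy : orderOf y = 3) :
    IsConj x y ∨ IsConj x⁻¹ y := by
  haveI : Fact (Nat.Prime 3) := ⟨Nat.prime_three⟩
  obtain ⟨P, hP⟩ := S.order_three_sylow hx
  obtain ⟨Q, hQ⟩ := S.order_three_sylow hy
  obtain ⟨g, hg⟩ := MulAction.exists_smul_eq (cz S.v) P Q
  have hmem : g * x * g⁻¹ ∈ zpowers y := by
    rw [← hQ, ← hg, Sylow.coe_subgroup_smul]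
    exact ⟨x, hP.ge (mem_zpowers x), rfl⟩
  rcases H78.M22R.mem_zpowers_three hy hmem with e | e | e
  · exfalso
    have := orderOf_conj' g x
    rw [e, orderOf_one, hx] at this
    exact absurd this (by norm_num)
  · exact Or.inl (isConj_iff.2 ⟨g, e⟩)
  · exact Or.inr (isConj_iff.2 ⟨g, by rw [← conj_inv, e, inv_inv]⟩)

theorem card_L_three (F : Facts G) : Nat.card {y : cz S.v // orderOf y = 3} = 32 := by
  rw [← S.card_three_v F]
  exact Nat.card_congr
    { toFun := fun y => ⟨y.1.1, (orderOf_coe y.1).trans y.2, (mem_cz.1 y.1.2).symm⟩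
      invFun := fun b => ⟨⟨b.1, mem_cz.2 b.2.2.symm⟩, (orderOf_mk _ _).trans b.2.1⟩
      left_inv := fun y => rfl
      right_inv := fun b => rfl }

theorem card_cent_L {x : G} (hxv : Commute x S.v) :
    Nat.card (cz (⟨x, mem_cz.2 hxv⟩ : cz S.v)) = Nat.card (cz x ⊓ cz S.v : Subgroup G) := by
  refine Nat.card_congr
    { toFun := fun g => ⟨g.1.1, mem_inf.2 ⟨mem_cz.2 (congrArg Subtype.val (mem_cz.1 g.2).eq), g.1.2⟩⟩
      invFun := fun g => ⟨⟨g.1, (mem_inf.1 g.2).2⟩, mem_cz.2 (Subtype.ext (mem_cz.1 (mem_inf.1 g.2).1).eq)⟩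
      left_inv := fun g => rfl
      right_inv := fun g => rfl }

theorem inverted_six (F : Facts G) {x : cz S.v} (hx : orderOf x = 3) (h : IsConj x x⁻¹) :
    Nat.card (cz x) = 6 := by
  have e : Nat.card {y : cz S.v // IsConj x y} = 32 := by
    rw [← S.card_L_three F]
    refine Nat.card_congr (Equiv.subtypeEquivRight fun y => ⟨fun hy => ?_, fun hy => ?_⟩)
    · obtain ⟨g, rfl⟩ := isConj_iff.1 hy
      rw [orderOf_conj', hx]
    · rcases S.conj_or_inv hx hy with h' | h'
      · exact h'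
      · exact h.trans h'
  have := card_class_mul x
  rw [e, S.cardv] at this
  omega

theorem not_inverted_twelve (F : Facts G) {x : cz S.v} (hx : orderOf x = 3) (h : ¬ IsConj x x⁻¹)
    {y : cz S.v} (hy : orderOf y = 3) : Nat.card (cz y) = 12 := by
  classical
  have hsum : Nat.card {y : cz S.v // IsConj x y} + Nat.card {y : cz S.v // IsConj x⁻¹ y} = 32 := by
    rw [← S.card_L_three F, ← Nat.card_sum]
    refine Nat.card_eq_of_bijective (fun q => (match q with
      | Sum.inl p => ⟨p.1, by obtain ⟨g, hg⟩ := isConj_iff.1 p.2; rw [← hg, orderOf_conj', hx]⟩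
      | Sum.inr p => ⟨p.1, by obtain ⟨g, hg⟩ := isConj_iff.1 p.2; rw [← hg, orderOf_conj', orderOf_inv, hx]⟩ :
        {y : cz S.v // orderOf y = 3})) ⟨?_, ?_⟩
    · rintro (⟨a, ha⟩ | ⟨a, ha⟩) (⟨b, hb⟩ | ⟨b, hb⟩) e <;>
        have e' : a = b := congrArg Subtype.val e <;> subst e'
      · rfl
      · exact absurd (ha.trans hb.symm) h
      · exact absurd (hb.trans ha.symm) h
      · rfl
    · rintro ⟨z, hz⟩
      rcases S.conj_or_inv hx hz with h' | h'
      · exact ⟨Sum.inl ⟨z, h'⟩, rfl⟩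
      · exact ⟨Sum.inr ⟨z, h'⟩, rfl⟩
  have h1 := card_class_mul x
  have h2 := card_class_mul x⁻¹
  rw [H78.M22R.cz_inv, S.cardv] at h2
  rw [S.cardv] at h1
  have h12 : Nat.card (cz x) = 12 := by
    generalize Nat.card (cz x) = C at *
    generalize Nat.card {y : cz S.v // IsConj x y} = A at *
    generalize Nat.card {y : cz S.v // IsConj x⁻¹ y} = B at *
    have : A = B := by
      have hC : 0 < C := Nat.pos_of_ne_zero fun h0 => by simp [h0] at h1
      exact Nat.eq_of_mul_eq_mul_right hC (h1.trans h2.symm)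
    subst this
    have : A = 16 := by omega
    subst this
    omega
  rcases S.conj_or_inv hx hy with h' | h'
  · obtain ⟨g, rfl⟩ := isConj_iff.1 h'
    rw [card_cz_conj, h12]
  · obtain ⟨g, rfl⟩ := isConj_iff.1 h'
    rw [card_cz_conj, H78.M22R.cz_inv, h12]

/-- Every element of order three in the centraliser of `v` is inverted there. -/
theorem exists_inverter_L (F : Facts G) {x : cz S.v} (hx : orderOf x = 3) : IsConj x x⁻¹ := by
  classical
  by_contra h
  haveI : Fact (Nat.Prime 2) := ⟨Nat.prime_two⟩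
  have hxG : orderOf (x : G) = 3 := (orderOf_coe x).trans hx
  have h12 : ∀ w y : G, IsConj S.v w → orderOf y = 3 → Commute y w →
      Nat.card (cz y ⊓ cz w : Subgroup G) = 12 := by
    intro w y hw hy hyw
    obtain ⟨g, rfl⟩ := isConj_iff.1 hw
    have hback : g * (g⁻¹ * y * g) * g⁻¹ = y := by group
    have hc : Commute (g⁻¹ * y * g) S.v := (commute_conj_iff g _ _).1 (by rw [hback]; exact hyw)
    have ho : orderOf (⟨g⁻¹ * y * g, mem_cz.2 hc⟩ : cz S.v) = 3 := by
      rw [orderOf_mk, ← hy, ← orderOf_conj' g (g⁻¹ * y * g), hback]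
    rw [← S.not_inverted_twelve F hx h ho, S.card_cent_L hc]
    refine (Nat.card_congr ((MulAut.conj g).toEquiv.subtypeEquiv fun b => ?_)).symm
    simp only [mem_inf, mem_cz, MulEquiv.toEquiv_eq_coe, MulEquiv.coe_toEquiv, MulAut.conj_apply]
    rw [← commute_conj_iff g b (g⁻¹ * y * g), hback, ← commute_conj_iff g b S.v]
  let C : Subgroup G := cz (x : G)
  have hxv : Commute (x : G) S.v := mem_cz.1 x.2
  -- all 2-subgroups of `C` have order at most four
  obtain ⟨T, hT, hT4⟩ : ∃ T : Sylow 2 C, S.v ∈ (T : Subgroup C).map C.subtype ∧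
      Nat.card (T : Subgroup C) = 4 := by
    let v' : C := ⟨S.v, mem_cz.2 hxv.symm⟩
    have hv' : IsPGroup 2 (zpowers v') :=
      isPGroup_zpowers ((orderOf_mk _ _).trans S.hv)
    obtain ⟨T, hT⟩ := hv'.exists_le_sylow
    refine ⟨T, ⟨v', hT (mem_zpowers v'), rfl⟩, ?_⟩
    obtain ⟨k, hk⟩ := IsPGroup.iff_card.1 T.2
    have hle : (T : Subgroup C).map C.subtype ≤ cz (x : G) ⊓ cz S.v := by
      refine le_inf (map_subtype_le _) fun a ha => mem_cz.2 ?_
      exact (two_group_facts F hxG (T.2.map C.subtype) (map_subtype_le _)).2 a ha _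
        ⟨v', hT (mem_zpowers v'), rfl⟩
    have hd := Subgroup.card_dvd_of_le hle
    rw [h12 S.v x (IsConj.refl _) hxG hxv, card_map_of_injective C.subtype_injective, hk] at hd
    have h12' : 4 ∣ Nat.card C := by
      refine dvd_trans (show 4 ∣ 12 by norm_num) ?_
      rw [← h12 S.v x (IsConj.refl _) hxG hxv]
      exact Subgroup.card_dvd_of_le inf_le_left
    have h4 := T.pow_dvd_card_of_pow_dvd_card (n := 2) (by simpa using h12')
    rw [hk] at h4 ⊢
    have hk2 : k ≤ 2 := by
      by_contra hk2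
      exact absurd ((pow_dvd_pow 2 (by omega : 3 ≤ k)).trans hd) (by norm_num)
    have : 2 ≤ k := (Nat.pow_dvd_pow_iff_le_right (by norm_num : 1 < 2)).1 h4
    obtain rfl : k = 2 := by omega
    rfl
  have hsyl : ∀ P : Sylow 2 C, Nat.card (P : Subgroup C) = 4 := fun P => by
    rw [Sylow.card_eq_multiplicity, ← T.card_eq_multiplicity, hT4]
  -- all involutions of `C` are conjugate to `v`
  have hallD : ∀ w : G, w ∈ C → orderOf w = 2 → IsConj S.v w := by
    intro w hwC hw
    rcases S.cover w hw with ha | hd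
    swap
    · exact hd
    exfalso
    have hp : IsPGroup 2 (zpowers (⟨w, hwC⟩ : C)) := isPGroup_zpowers ((orderOf_mk _ _).trans hw)
    obtain ⟨P, hP⟩ := hp.exists_le_sylow
    obtain ⟨g, hg⟩ := MulAction.exists_smul_eq C P T
    have hmem : (g : G) * w * (g : G)⁻¹ ∈ (T : Subgroup C).map C.subtype := by
      rw [← hg, Sylow.coe_subgroup_smul]
      exact ⟨g * ⟨w, hwC⟩ * g⁻¹, ⟨⟨w, hwC⟩, hP (mem_zpowers _), rfl⟩, rfl⟩
    have ha' : IsConj S.t ((g : G) * w * (g : G)⁻¹) := ha.trans (isConj_iff.2 ⟨g, rfl⟩)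
    have hf := two_group_facts F hxG (T.2.map C.subtype) (map_subtype_le _)
    obtain ⟨b, hb1, hb2⟩ := S.inverter ha' S.hv (fun e => S.not_conj (e ▸ ha'))
      (hf.2 _ hmem _ hT) hxG (mem_cz.1 (map_subtype_le _ hmem)).symm hxv
    exact h (isConj_iff.2 ⟨⟨b, mem_cz.2 hb2⟩, Subtype.ext hb1⟩)
  -- distinct Sylow subgroups of `C` meet trivially
  have hTI : ∀ P Q : Sylow 2 C, ∀ w : C, w ∈ (P : Subgroup C) → w ∈ (Q : Subgroup C) → w ≠ 1 →
      P = Q := by
    intro P Q w hwP hwQ hw1
    have hfP := two_group_facts F hxG (P.2.map C.subtype) (map_subtype_le _)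
    have hfQ := two_group_facts F hxG (Q.2.map C.subtype) (map_subtype_le _)
    have hw2 : orderOf (w : G) = 2 := by
      refine orderOf_eq_prime (by rw [pow_two]; exact hfP.1 _ ⟨w, hwP, rfl⟩) fun e => hw1 (Subtype.ext e)
    have hM := h12 w x (hallD w w.2 hw2) hxG (mem_cz.1 w.2).symm
    set M : Subgroup G := cz (x : G) ⊓ cz (w : G) with hMdef
    let P' : Subgroup G := (P : Subgroup C).map C.subtype
    have hP' : P' ≤ M := le_inf (map_subtype_le _) fun a ha => mem_cz.2 (hfP.2 a ha _ ⟨w, hwP, rfl⟩)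
    have hxM : zpowers (x : G) ≤ M :=
      zpowers_le.2 (mem_inf.2 ⟨mem_cz.2 (Commute.refl _), mem_cz.2 (mem_cz.1 w.2).symm⟩)
    have hnorm : zpowers (x : G) ≤ normalizer (P' : Set G) :=
      zpowers_le.2 (centralizer_le_normalizer _ (mem_centralizer_iff.2 fun a ha =>
        (mem_cz.1 (map_subtype_le _ ha)).eq))
    have hcP : Nat.card P' = 4 := by rw [card_map_of_injective C.subtype_injective, hsyl]
    have hd : P' ⊓ zpowers (x : G) = ⊥ := (disjoint_of_coprime_natCard (by
      rw [hcP, Nat.card_zpowers, hxG]; norm_num)).eq_bot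
    have heq : P' ⊔ zpowers (x : G) = M := eq_of_le_of_card_ge (sup_le hP' hxM) (by
      rw [card_sup_eq hnorm hd, hM, hcP, Nat.card_zpowers, hxG])
    have hsub : (Q : Subgroup C).map C.subtype ≤ P' := by
      intro q hq
      have hqM : q ∈ M := mem_inf.2 ⟨map_subtype_le _ hq, mem_cz.2 (hfQ.2 q hq _ ⟨w, hwQ, rfl⟩)⟩
      rw [← heq, ← SetLike.mem_coe, coe_mul_of_right_le_normalizer_left P' _ hnorm] at hqM
      obtain ⟨a, ha, z, hz, e⟩ := hqM
      simp only at e
      rcases H78.M22R.mem_zpowers_three hxG hz with rfl | rfl | rfl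
      · rw [← e, mul_one]; exact ha
      all_goals
        exfalso
        have hsq := hfQ.1 q hq
        have hca : Commute a _ := (mem_cz.1 (map_subtype_le _ ha))
        rw [← e] at hsq
      · rw [mul_assoc, ← mul_assoc (x : G) a, ← hca.eq, mul_assoc a (x : G), ← mul_assoc, hfP.1 a ha,
          one_mul, ← pow_two, ← orderOf_dvd_iff_pow_eq_one, hxG] at hsq
        norm_num at hsq
      · rw [mul_assoc, ← mul_assoc (x : G)⁻¹ a, ← hca.inv_right.eq, mul_assoc a (x : G)⁻¹, ← mul_assoc,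
          hfP.1 a ha, one_mul, ← pow_two, ← orderOf_dvd_iff_pow_eq_one, orderOf_inv, hxG] at hsq
        norm_num at hsq
    have : (Q : Subgroup C).map C.subtype = P' := eq_of_le_of_card_ge hsub
      (hcP.le.trans ((card_map_of_injective C.subtype_injective).trans (hsyl Q)).ge)
    exact Sylow.ext (map_injective C.subtype_injective this.symm)
  -- the number of involutions of `C`
  let n := Nat.card (Sylow 2 C)
  have hm : Nat.card {w : G // IsConj S.v w ∧ Commute (x : G) w} = n * 3 := by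
    have hne : ∀ P : Sylow 2 C, Nat.card {w : C // w ∈ (P : Subgroup C) ∧ w ≠ 1} = 3 := by
      intro P
      have : Nat.card {w : C // w ∈ (P : Subgroup C) ∧ w ≠ 1} = Nat.card {w : (P : Subgroup C) // w ≠ 1} :=
        Nat.card_congr
          { toFun := fun w => ⟨⟨w.1, w.2.1⟩, fun e => w.2.2 (congrArg Subtype.val e)⟩
            invFun := fun w => ⟨w.1.1, w.1.2, fun e => w.2 (Subtype.ext e)⟩
            left_inv := fun w => rfl
            right_inv := fun w => rfl }
      haveI := Fintype.ofFinite (P : Subgroup C)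
      rw [‹Nat.card {w : C // w ∈ (P : Subgroup C) ∧ w ≠ 1} = _›, Nat.card_eq_fintype_card, Fintype.card_subtype_compl, Fintype.card_subtype_eq,
        ← Nat.card_eq_fintype_card, hsyl]
    haveI := Fintype.ofFinite (Sylow 2 C)
    have hs : Nat.card (Σ P : Sylow 2 C, {w : C // w ∈ (P : Subgroup C) ∧ w ≠ 1}) = n * 3 := by
      rw [Nat.card_sigma, Finset.sum_congr rfl (fun P _ => hne P), Finset.sum_const, Finset.card_univ,
        smul_eq_mul, ← Nat.card_eq_fintype_card]
    rw [← hs]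
    have hD' : ∀ q : (Σ P : Sylow 2 C, {w : C // w ∈ (P : Subgroup C) ∧ w ≠ 1}),
        IsConj S.v (q.2.1 : G) ∧ Commute (x : G) (q.2.1 : G) := by
      intro q
      refine ⟨hallD _ q.2.1.2 (orderOf_eq_prime ?_ fun e => q.2.2.2 (Subtype.ext e)),
        (mem_cz.1 q.2.1.2).symm⟩
      rw [pow_two]
      exact (two_group_facts F hxG (q.1.2.map C.subtype) (map_subtype_le _)).1 _ ⟨q.2.1, q.2.2.1, rfl⟩
    refine (Nat.card_eq_of_bijective (fun q => ⟨(q.2.1 : G), hD' q⟩) ⟨?_, ?_⟩).symm
    · rintro ⟨P, w, hw⟩ ⟨Q, w', hw'⟩ e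
      have e' : w = w' := Subtype.ext (congrArg Subtype.val e :)
      subst e'
      obtain rfl := hTI P Q w hw.1 hw'.1 hw.2
      rfl
    · rintro ⟨w, hw, hwx⟩
      obtain ⟨g, hg⟩ := isConj_iff.1 hw
      have hw2 : orderOf w = 2 := by rw [← hg, orderOf_conj', S.hv]
      have hp : IsPGroup 2 (zpowers (⟨w, mem_cz.2 hwx.symm⟩ : C)) :=
        isPGroup_zpowers ((orderOf_mk _ _).trans hw2)
      obtain ⟨P, hP⟩ := hp.exists_le_sylow
      refine ⟨⟨P, ⟨⟨w, mem_cz.2 hwx.symm⟩, hP (mem_zpowers _), fun e => ?_⟩⟩, rfl⟩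
      rw [show w = 1 from congrArg Subtype.val e, orderOf_one] at hw2
      exact absurd hw2 (by norm_num)
  -- counting pairs
  have hpairs : Nat.card {p : G × G // IsConj S.v p.1 ∧ orderOf p.2 = 3 ∧ Commute p.1 p.2} = 495 * 32 := by
    rw [card_pairs_class (IsConj S.v) (fun y => orderOf y = 3) (fun g a ha => by rw [orderOf_conj', ha])
      (fun a => Iff.rfl), S.class_v F, S.card_three_v F]
  let N := Nat.card {y : G // IsConj (x : G) y ∨ IsConj (x : G)⁻¹ y}
  have hprod : N * (n * 3) = 495 * 32 := by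
    rw [← hpairs]
    haveI := Fintype.ofFinite {y : G // IsConj (x : G) y ∨ IsConj (x : G)⁻¹ y}
    have e : Nat.card (Σ y : {y : G // IsConj (x : G) y ∨ IsConj (x : G)⁻¹ y},
        {w : G // IsConj S.v w ∧ Commute y.1 w}) = N * (n * 3) := by
      have hfib : ∀ y : {y : G // IsConj (x : G) y ∨ IsConj (x : G)⁻¹ y},
          Nat.card {w : G // IsConj S.v w ∧ Commute y.1 w} = n * 3 := by
        rintro ⟨y, hy | hy⟩ <;> obtain ⟨g, rfl⟩ := isConj_iff.1 hy <;> rw [← hm] <;>
          refine (Nat.card_congr ((MulAut.conj g).toEquiv.subtypeEquiv fun b => ?_)).symm <;>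
          simp only [MulEquiv.toEquiv_eq_coe, MulEquiv.coe_toEquiv, MulAut.conj_apply] <;>
          refine and_congr ⟨fun hb => hb.trans (isConj_iff.2 ⟨g, rfl⟩),
            fun hb => hb.trans (isConj_iff.2 ⟨g, rfl⟩).symm⟩ ?_ <;>
          rw [commute_conj_iff]
        rw [Commute.inv_left_iff]
      rw [Nat.card_sigma, Finset.sum_congr rfl (fun y _ => hfib y), Finset.sum_const, Finset.card_univ,
        smul_eq_mul, ← Nat.card_eq_fintype_card]
    rw [← e]
    refine Nat.card_eq_of_bijective (fun q => ⟨(q.2.1, q.1.1), q.2.2.1, ?_, q.2.2.2.symm⟩) ⟨?_, ?_⟩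
    · show orderOf q.1.1 = 3
      rcases q.1.2 with hy | hy <;> obtain ⟨g, hg⟩ := isConj_iff.1 hy <;>
        have hg' := congrArg orderOf hg <;> rw [orderOf_conj'] at hg'
      · exact hg'.symm.trans hxG
      · exact hg'.symm.trans (by rw [orderOf_inv]; exact hxG)
    · rintro ⟨⟨y, hy⟩, w, hw⟩ ⟨⟨y', hy'⟩, w', hw'⟩ e'
      have e1 := congrArg (fun p => p.1.2) e'
      have e2 := congrArg (fun p => p.1.1) e'
      simp only at e1 e2
      subst e1; subst e2; rfl
    · rintro ⟨⟨w, y⟩, hw, hy, hc⟩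
      obtain ⟨g, rfl⟩ := isConj_iff.1 hw
      have hback : g * (g⁻¹ * y * g) * g⁻¹ = y := by group
      have hyc : Commute (g⁻¹ * y * g) S.v := (commute_conj_iff g _ _).1 (by rw [hback]; exact hc.symm)
      have ho : orderOf (⟨g⁻¹ * y * g, mem_cz.2 hyc⟩ : cz S.v) = 3 := by
        rw [orderOf_mk, ← orderOf_conj' g (g⁻¹ * y * g), hback]; exact hy
      refine ⟨⟨⟨y, ?_⟩, ⟨g * S.v * g⁻¹, isConj_iff.2 ⟨g, rfl⟩, hc.symm⟩⟩, rfl⟩
      rcases S.conj_or_inv hx ho with h' | h' <;> obtain ⟨k, hk⟩ := isConj_iff.1 h' <;>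
        have hk' := congrArg Subtype.val hk
      · exact Or.inl (isConj_iff.2 ⟨g * k, by simpa [mul_assoc] using congrArg (fun z => g * z * g⁻¹) hk'⟩)
      · exact Or.inr (isConj_iff.2 ⟨g * k, by simpa [mul_assoc] using congrArg (fun z => g * z * g⁻¹) hk'⟩)
  have hN4400 : N ≤ 4400 := by
    rw [← F.three, cnt]
    refine Nat.card_le_card_of_injective (fun y => ⟨y.1, ?_⟩) fun a b e => Subtype.ext (congrArg Subtype.val e :)
    rcases y.2 with hy | hy <;> obtain ⟨g, hg⟩ := isConj_iff.1 hy <;> rw [← hg, orderOf_conj']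
    · exact hxG
    · rw [orderOf_inv]; exact hxG
  have hnodd : n % 2 = 1 := card_sylow_modEq_one 2 C
  -- the class of `x`
  have hK := card_class_mul (x : G)
  rw [F.card] at hK
  have hNK : N = Nat.card {y : G // IsConj (x : G) y} ∨ N = 2 * Nat.card {y : G // IsConj (x : G) y} := by
    by_cases hc : IsConj (x : G) (x : G)⁻¹
    · exact Or.inl (Nat.card_congr (Equiv.subtypeEquivRight fun y =>
        ⟨fun hy => hy.elim id hc.trans, Or.inl⟩))
    · right
      have hKi : Nat.card {y : G // IsConj (x : G)⁻¹ y} = Nat.card {y : G // IsConj (x : G) y} := by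
        have h2 := card_class_mul (x : G)⁻¹
        rw [H78.M22R.cz_inv, F.card] at h2
        exact Nat.eq_of_mul_eq_mul_right Nat.card_pos (h2.trans hK.symm)
      rw [two_mul]
      nth_rw 2 [← hKi]
      rw [← Nat.card_sum]
      exact Nat.card_congr (subtypeOrEquiv _ _ (by
        rw [Pi.disjoint_iff]
        intro y
        rw [Prop.disjoint_iff]
        exact fun hh => hc (hh.1.trans hh.2.symm)))
  obtain ⟨k, hk⟩ : 12 ∣ Nat.card C := by
    rw [← h12 S.v x (IsConj.refl _) hxG hxv]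
    exact Subgroup.card_dvd_of_le inf_le_left
  have hk9 : k ∣ 9 := by
    have hdvd : Nat.card C ∣ 95040 := F.card ▸ C.card_subgroup_dvd_card
    have hcop : ∀ p : ℕ, p.Prime → (p = 5 ∨ p = 11) → ¬ p ∣ Nat.card C := by
      intro p hp hpp hpd
      haveI : Fact p.Prime := ⟨hp⟩
      obtain ⟨y, hy, hyo⟩ := exists_orderOf p hpd
      have ho : orderOf (y * (x : G)) = p * 3 := by
        rw [(mem_cz.1 hy).orderOf_mul_eq_mul_orderOf_of_coprime, hyo, hxG]
        rw [hyo, hxG]
        rcases hpp with rfl | rfl <;> norm_num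
      have := F.orders (y * (x : G))
      rw [ho] at this
      rcases hpp with rfl | rfl <;> simp at this
    have h8 : ¬ 8 ∣ Nat.card C := by
      intro h8
      have h := T.pow_dvd_card_of_pow_dvd_card (n := 3) (by simpa using h8)
      rw [hT4] at h
      norm_num at h
    rw [hk] at hdvd h8
    have h7 : k ∣ 7920 := by
      rw [show (95040 : ℕ) = 12 * 7920 by norm_num] at hdvd
      exact Nat.dvd_of_mul_dvd_mul_left (by norm_num) hdvd
    have c55 : Nat.Coprime k 55 := by
      rw [show (55 : ℕ) = 5 * 11 by norm_num]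
      refine Nat.Coprime.mul_right ?_ ?_ <;> refine Nat.Coprime.symm ?_
      · refine (Nat.Prime.coprime_iff_not_dvd (by norm_num)).2 fun hd => hcop 5 (by norm_num) (Or.inl rfl) ?_
        rw [hk]; exact hd.mul_left 12
      · refine (Nat.Prime.coprime_iff_not_dvd (by norm_num)).2 fun hd => hcop 11 (by norm_num) (Or.inr rfl) ?_
        rw [hk]; exact hd.mul_left 12
    have h144 : k ∣ 144 := c55.dvd_of_dvd_mul_right (show k ∣ 144 * 55 from h7)
    have hodd : Nat.Coprime k 16 := by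
      rw [show (16 : ℕ) = 2 ^ 4 by norm_num]
      refine Nat.Coprime.pow_right 4 (Nat.coprime_two_right.2 (Nat.odd_iff.2 ?_))
      by_contra hev
      exact h8 ⟨3 * (k / 2), by omega⟩
    exact hodd.dvd_of_dvd_mul_right (show k ∣ 9 * 16 from h144)
  generalize Nat.card {y : G // IsConj (x : G) y} = K at hK hNK
  rw [show Nat.card (cz (x : G)) = Nat.card C from rfl, hk] at hK
  have hn3 : n = 3 := by
    have hk' := Nat.le_of_dvd (by norm_num) hk9
    clear_value n N
    have hK' : K * k = 7920 := by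
      have e : K * (12 * k) = 12 * (K * k) := by ring
      omega
    have hKv : K = 7920 / k := by
      rw [← hK', Nat.mul_div_cancel]
      rcases Nat.eq_zero_or_pos k with rfl | h0
      · simp at hK'
      · exact h0
    subst hKv
    interval_cases k
    all_goals norm_num at hk9
    all_goals rcases hNK with rfl | rfl
    all_goals norm_num at hN4400
    all_goals norm_num at hprod
    all_goals omega
  -- three disjoint four-groups cannot occur
  haveI := Fintype.ofFinite (Sylow 2 C)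
  have hfix : ∀ (w : C) (P : Sylow 2 C), w * w = 1 → w • P = P → w ∈ (P : Subgroup C) := by
    intro w P hw hwP
    have hp : IsPGroup 2 (zpowers w) := by
      intro g
      obtain ⟨i, hi⟩ := mem_zpowers_iff.1 g.2
      refine ⟨1, Subtype.ext ?_⟩
      show (g : C) ^ (2 ^ 1) = 1
      rw [← hi, pow_one, pow_two, ← (Commute.refl w).mul_zpow, hw, one_zpow]
    have hle : ((P : Subgroup C) ⊔ zpowers w : Subgroup C) = P := P.3
      (IsPGroup.to_sup_of_normal_left' P.2 hp (zpowers_le.2 (Sylow.smul_eq_iff_mem_normalizer.1 hwP)))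
      le_sup_left
    exact hle.le (le_sup_right (a := (P : Subgroup C)) (mem_zpowers w))
  obtain ⟨P₁, P₂, P₃, h12', h13, h23, hall⟩ : ∃ P₁ P₂ P₃ : Sylow 2 C, P₁ ≠ P₂ ∧ P₁ ≠ P₃ ∧ P₂ ≠ P₃ ∧
      ∀ P, P = P₁ ∨ P = P₂ ∨ P = P₃ := by
    have hn : (Finset.univ : Finset (Sylow 2 C)).card = 3 := by
      rw [Finset.card_univ, ← Nat.card_eq_fintype_card]; exact hn3
    obtain ⟨a, b, c, hab, hac, hbc, e⟩ := Finset.card_eq_three.1 hn
    exact ⟨a, b, c, hab, hac, hbc, fun P => by
      have := Finset.mem_univ P; rw [e] at this; simpa using this⟩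
  have hsq : ∀ w ∈ (P₁ : Subgroup C), w * w = 1 := fun w hw => Subtype.ext
    ((two_group_facts F hxG (P₁.2.map C.subtype) (map_subtype_le _)).1 _ ⟨w, hw, rfl⟩)
  have hmove : ∀ w ∈ (P₁ : Subgroup C), w ≠ 1 → w • P₂ = P₃ := by
    intro w hw hw1
    have hfix1 : w • P₁ = P₁ := Sylow.smul_eq_iff_mem_normalizer.2 (le_normalizer hw)
    rcases hall (w • P₂) with e | e | e
    · exact absurd (smul_left_cancel w (e.trans hfix1.symm)).symm h12'
    · exact absurd (hTI P₁ P₂ w hw (hfix w P₂ (hsq w hw) e) hw1) h12'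
    · exact e
  obtain ⟨w₁, w₂, hw₁, hw₂, hw₁1, hw₂1, hne⟩ : ∃ w₁ w₂ : C, w₁ ∈ (P₁ : Subgroup C) ∧
      w₂ ∈ (P₁ : Subgroup C) ∧ w₁ ≠ 1 ∧ w₂ ≠ 1 ∧ w₁ ≠ w₂ := by
    haveI := Fintype.ofFinite (P₁ : Subgroup C)
    have hc : 2 < (Finset.univ : Finset (P₁ : Subgroup C)).card := by
      rw [Finset.card_univ, ← Nat.card_eq_fintype_card, hsyl]; norm_num
    have h2 : 1 < ((Finset.univ : Finset (P₁ : Subgroup C)).erase 1).card := by
      rw [Finset.card_erase_of_mem (Finset.mem_univ _)]; omega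
    obtain ⟨a, ha, b, hb, hab⟩ := Finset.one_lt_card.1 h2
    exact ⟨a, b, a.2, b.2, fun e => (Finset.mem_erase.1 ha).1 (Subtype.ext e),
      fun e => (Finset.mem_erase.1 hb).1 (Subtype.ext e), fun e => hab (Subtype.ext e)⟩
  have e1 := hmove w₁ hw₁ hw₁1
  have e2 := hmove w₂ hw₂ hw₂1
  have hfix2 : (w₁ * w₂) • P₂ = P₂ := by
    rw [mul_smul, e2, ← e1, ← mul_smul, hsq w₁ hw₁, one_smul]
  have hne1 : w₁ * w₂ ≠ 1 := fun e => hne (by
    rw [eq_inv_of_mul_eq_one_left e, inv_eq_of_mul_eq_one_right (hsq w₂ hw₂)])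
  exact h12' (hTI P₁ P₂ _ (mul_mem hw₁ hw₂) (hfix _ _ (hsq _ (mul_mem hw₁ hw₂)) hfix2) hne1)

end Setting

end H37.MTwelveNse
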