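import Cfsg.Agent.H37.MTwelveNse.Cent

/-! Lifting elements of the symmetric group of degree five to the centraliser of order 240. -/

set_option autoImplicit false
set_option linter.style.haveILetI false

namespace H37.MTwelveNse

open Subgroup Equiv
open H78.M22R (cnt cz mem_cz card_cz_conj orderOf_conj' card_class_mul)

/-- A fixed product of two disjoint transpositions. -/
def dbl : Perm (Fin 5) := swap 0 2 * swap 1 3

theorem perm_dbl :
    ∀ σ : Perm (Fin 5), σ * σ = 1 → σ ≠ 1 → Perm.sign σ = 1 →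
      ∃ τ : Perm (Fin 5), τ * dbl * τ⁻¹ = σ := by
  unfold dbl; decide +kernel

theorem perm_dbl_cent :
    (Finset.univ.filter fun σ : Perm (Fin 5) => σ * dbl = dbl * σ).card = 8 := by
  unfold dbl; decide +kernel

theorem perm_dbl_center : ∀ σ : Perm (Fin 5),
    (∀ τ : Perm (Fin 5), τ * dbl = dbl * τ → τ * σ = σ * τ) → σ = 1 ∨ σ = dbl := by
  unfold dbl; decide +kernel

variable {G : Type*} [Group G] [Finite G]

namespace Cen

variable {t : G} (c : Cen t)

include c

/-- `g` lies over `σ`. -/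
def Im (g : G) (σ : Perm (Fin 5)) : Prop := ∃ h : g ∈ cz t, c.π ⟨g, h⟩ = σ

omit [Finite G] in
theorem sq_t : t * t = 1 := by rw [← pow_two, ← c.inv, pow_orderOf_eq_one]

omit [Finite G] in
theorem t_ne : t ≠ 1 := fun h => by
  have := c.inv
  rw [h, orderOf_one] at this
  exact absurd this (by norm_num)

omit [Finite G] in
theorem im_one : c.Im 1 1 := ⟨one_mem _, map_one c.π⟩

omit [Finite G] in
theorem im_mul {g h : G} {σ τ : Perm (Fin 5)} (hg : c.Im g σ) (hh : c.Im h τ) :
    c.Im (g * h) (σ * τ) := by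
  obtain ⟨a, rfl⟩ := hg
  obtain ⟨b, rfl⟩ := hh
  exact ⟨mul_mem a b, map_mul c.π ⟨g, a⟩ ⟨h, b⟩⟩

omit [Finite G] in
theorem im_inv {g : G} {σ : Perm (Fin 5)} (hg : c.Im g σ) : c.Im g⁻¹ σ⁻¹ := by
  obtain ⟨a, rfl⟩ := hg
  exact ⟨inv_mem a, map_inv c.π ⟨g, a⟩⟩

omit [Finite G] in
theorem im_pow {g : G} {σ : Perm (Fin 5)} (hg : c.Im g σ) (n : ℕ) : c.Im (g ^ n) (σ ^ n) := by
  induction n with
  | zero => simpa using c.im_one
  | succ n ih => rw [pow_succ, pow_succ]; exact c.im_mul ih hg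

omit [Finite G] in
theorem im_conj {g h : G} {σ τ : Perm (Fin 5)} (hg : c.Im g σ) (hh : c.Im h τ) :
    c.Im (g * h * g⁻¹) (σ * τ * σ⁻¹) := c.im_mul (c.im_mul hg hh) (c.im_inv hg)

omit [Finite G] in
theorem im_unique {g : G} {σ τ : Perm (Fin 5)} (h1 : c.Im g σ) (h2 : c.Im g τ) : σ = τ := by
  obtain ⟨a, rfl⟩ := h1
  obtain ⟨b, rfl⟩ := h2
  rfl

omit [Finite G] in
theorem exists_im (σ : Perm (Fin 5)) : ∃ g : G, c.Im g σ := by
  obtain ⟨g, hg⟩ := c.surj σ
  exact ⟨g, g.2, hg⟩

omit [Finite G] in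
theorem exists_of_mem {g : G} (h : g ∈ cz t) : ∃ σ, c.Im g σ := ⟨_, h, rfl⟩

omit [Finite G] in
theorem commute_im {g : G} {σ : Perm (Fin 5)} (hg : c.Im g σ) : Commute g t := mem_cz.1 hg.1

theorem im_t : c.Im t 1 := by
  classical
  refine ⟨mem_cz.2 (Commute.refl t), ?_⟩
  by_contra hne
  have hinj : Function.Injective c.π := by
    rw [← MonoidHom.ker_eq_bot_iff, eq_bot_iff]
    intro g hg
    rcases c.ker g hg with h | h
    · exact mem_bot.2 (Subtype.ext h)
    · exact absurd (by rw [show (⟨t, _⟩ : cz t) = g from Subtype.ext h.symm]; exact hg) hne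
  have := Nat.card_le_card_of_injective c.π hinj
  rw [c.card, Nat.card_perm, Nat.card_fin] at this
  exact absurd this (by decide)

omit [Finite G] in
theorem im_cases {g : G} (hg : c.Im g 1) : g = 1 ∨ g = t := c.ker ⟨g, hg.1⟩ (hg.2 ▸ rfl)

omit [Finite G] in
theorem im_eq {g h : G} {σ : Perm (Fin 5)} (hg : c.Im g σ) (hh : c.Im h σ) :
    g = h ∨ g = h * t := by
  have h1 : c.Im (h⁻¹ * g) 1 := by simpa using c.im_mul (c.im_inv hh) hg
  rcases c.im_cases h1 with e | e
  · exact Or.inl (inv_mul_eq_one.1 e).symm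
  · exact Or.inr (inv_mul_eq_iff_eq_mul.1 e)

omit [Finite G] in
theorem sq_mul_t {g : G} {σ : Perm (Fin 5)} (hg : c.Im g σ) : (g * t) * (g * t) = g * g := by
  rw [mul_assoc, ← mul_assoc t g t, ← (c.commute_im hg).eq, mul_assoc g t t, c.sq_t, mul_one]

omit [Finite G] in
theorem orderOf_mul_t {g : G} {σ : Perm (Fin 5)} (hg : c.Im g σ) (h : Odd (orderOf g)) :
    orderOf (g * t) = 2 * orderOf g := by
  rw [(c.commute_im hg).orderOf_mul_eq_mul_orderOf_of_coprime, c.inv, mul_comm]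
  rw [c.inv]
  exact Nat.coprime_two_right.2 h

omit [Finite G] in
theorem odd_unique {g h : G} {σ : Perm (Fin 5)} (hg : c.Im g σ) (hh : c.Im h σ)
    (hgo : Odd (orderOf g)) (hho : Odd (orderOf h)) : g = h := by
  rcases c.im_eq hg hh with e | e
  · exact e
  · exfalso
    rw [e, c.orderOf_mul_t hh hho] at hgo
    exact Nat.not_odd_iff_even.2 (even_two_mul _) hgo

omit [Finite G] in
theorem exists_odd_lift {p : ℕ} (hp : p.Prime) (h2 : p ≠ 2) {σ : Perm (Fin 5)} (hσ : σ ^ p = 1)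
    (h1 : σ ≠ 1) : ∃ g : G, c.Im g σ ∧ orderOf g = p := by
  obtain ⟨g, hg⟩ := c.exists_im σ
  have hk : ∃ k, p + 1 = 2 * k := by
    obtain ⟨k, hk⟩ := hp.odd_of_ne_two h2; exact ⟨k + 1, by omega⟩
  obtain ⟨k, hk⟩ := hk
  have hgs : c.Im (g ^ (p + 1)) σ := by
    have h := c.im_pow hg (p + 1)
    rwa [pow_succ σ, hσ, one_mul] at h
  refine ⟨_, hgs, orderOf_eq_prime (hp := ⟨hp⟩) ?_ fun h => h1 (c.im_unique hgs (h ▸ c.im_one))⟩
  rw [← pow_mul, mul_comm, pow_mul]
  have h2' : (g ^ p) * (g ^ p) = 1 := by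
    have hp1 : c.Im (g ^ p) 1 := hσ ▸ c.im_pow hg p
    rcases c.im_cases hp1 with e | e <;> rw [e]
    · exact one_mul 1
    · exact c.sq_t
  rw [hk, pow_mul, pow_two, h2', one_pow]

/-- Elements of order two and Sylow data over `dbl`. -/
theorem exists_uv (F : Facts G) : ∃ u v : G, orderOf v = 2 ∧ c.Im u dbl ∧ c.Im v dbl ∧ v = u * t ∧
    IsConj t u ∧ 64 ∣ Nat.card (cz v) := by
  classical
  haveI : Fact (Nat.Prime 2) := ⟨Nat.prime_two⟩
  let S : Subgroup G := ((Subgroup.centralizer ({dbl} : Set (Perm (Fin 5)))).comap c.π).map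
    (cz t).subtype
  have hmem : ∀ g, g ∈ S ↔ ∃ σ, c.Im g σ ∧ σ * dbl = dbl * σ := by
    intro g
    constructor
    · rintro ⟨a, ha, rfl⟩
      exact ⟨_, ⟨a.2, rfl⟩, mem_centralizer_singleton_iff.1 ha⟩
    · rintro ⟨σ, ⟨h, e⟩, hσ⟩
      exact ⟨⟨g, h⟩, mem_centralizer_singleton_iff.2 (e ▸ hσ), rfl⟩
  have hS : Nat.card S = 16 := by
    rw [card_map_of_injective (cz t).subtype_injective]
    have h8 : Nat.card (Subgroup.centralizer ({dbl} : Set (Perm (Fin 5)))) = 8 := by
      rw [Nat.card_eq_fintype_card, ← perm_dbl_cent, Fintype.card_subtype]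
      exact congrArg Finset.card (Finset.filter_congr fun σ _ => mem_centralizer_singleton_iff)
    have h := (((Subgroup.centralizer ({dbl} : Set (Perm (Fin 5)))).comap c.π)).card_mul_index
    rw [Subgroup.index_comap_of_surjective _ c.surj, c.card] at h
    have h' := (Subgroup.centralizer ({dbl} : Set (Perm (Fin 5)))).card_mul_index
    rw [h8, Nat.card_perm, Nat.card_fin] at h'
    norm_num [Nat.factorial] at h'
    have h15 : (Subgroup.centralizer ({dbl} : Set (Perm (Fin 5)))).index = 15 := by omega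
    rw [h15] at h; omega
  have hSt : S ≤ cz t := map_subtype_le _
  have hnot : ∀ K : Subgroup G, 32 ∣ Nat.card K → ¬ K ≤ cz t := by
    intro K hK hle
    have h := hK.trans (Subgroup.card_dvd_of_le hle)
    rw [c.card] at h
    exact absurd h (by norm_num)
  have hcenS : ∀ a : G, a ∈ cz t → (∀ s ∈ S, Commute a s) → c.Im a 1 ∨ c.Im a dbl := by
    intro a ha hs
    obtain ⟨σ, hσ⟩ := c.exists_of_mem ha
    rcases perm_dbl_center σ (fun τ hτ => by
      obtain ⟨g, hg⟩ := c.exists_im τ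
      have he := (hs g ((hmem g).2 ⟨τ, hg, hτ⟩)).eq
      exact c.im_unique (he ▸ c.im_mul hg hσ) (c.im_mul hσ hg)) with rfl | rfl
    · exact Or.inl hσ
    · exact Or.inr hσ
  have htS : t ∈ S := (hmem t).2 ⟨1, c.im_t, by rw [one_mul, mul_one]⟩
  obtain ⟨K, hK, hSK⟩ := Sylow.exists_subgroup_card_pow_succ (p := 2) (n := 4)
    (by rw [F.card]; norm_num) (H := S) (by rw [hS]; norm_num)
  obtain ⟨h, hhK, hht⟩ : ∃ h ∈ K, h ∉ cz t := by
    by_contra! hall
    exact hnot K (by rw [hK]; norm_num) hall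
  have hnorm : K ≤ normalizer (S : Set G) := by
    have : (S.subgroupOf K).Normal := by
      refine Subgroup.normal_of_index_eq_two ?_
      have h1 := (S.subgroupOf K).card_mul_index
      rw [Nat.card_congr (subgroupOfEquivOfLe hSK).toEquiv, hS, hK] at h1
      norm_num at h1
      omega
    exact (normal_subgroupOf_iff_le_normalizer hSK).1 this
  let u := h * t * h⁻¹
  have hu2 : orderOf u = 2 := by rw [orderOf_conj']; exact c.inv
  have hconj : IsConj t u := isConj_iff.2 ⟨h, rfl⟩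
  have huS : u ∈ S := (mem_normalizer_iff.1 (hnorm hhK) t).1 htS
  have hucomm : ∀ s ∈ S, Commute u s := by
    intro s hs
    have hs' : h⁻¹ * s * h ∈ S := by
      refine (mem_normalizer_iff.1 (hnorm hhK) _).2 ?_
      have e : h * (h⁻¹ * s * h) * h⁻¹ = s := by group
      rwa [e]
    have := (H78.M22R.commute_conj_iff h t (h⁻¹ * s * h)).2 (mem_cz.1 (hSt hs')).symm
    rwa [show h * (h⁻¹ * s * h) * h⁻¹ = s by group] at this
  have hud : c.Im u dbl := by
    rcases hcenS u (hSt huS) hucomm with h1 | h1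
    · exfalso
      rcases c.im_cases h1 with e | e
      · rw [e, orderOf_one] at hu2; exact absurd hu2 (by norm_num)
      · exact hht (mem_cz.2 (mul_inv_eq_iff_eq_mul.1 e))
    · exact h1
  have hvd : c.Im (u * t) dbl := by simpa using c.im_mul hud c.im_t
  have hv2 : orderOf (u * t) = 2 := by
    refine orderOf_eq_prime ?_ ?_
    · rw [pow_two, c.sq_mul_t hud, ← pow_two, ← hu2, pow_orderOf_eq_one]
    · intro e
      exact absurd (c.im_unique (e ▸ hvd) c.im_one) (by unfold dbl; decide)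
  refine ⟨u, u * t, hv2, hud, hvd, rfl, hconj, ?_⟩
  obtain ⟨P, hP⟩ := (IsPGroup.of_card (p := 2) (n := 4) (by rw [hS]; norm_num) :
    IsPGroup 2 S).exists_le_sylow
  have hPcard : Nat.card (P : Subgroup G) = 64 := by
    rw [Sylow.card_eq_multiplicity, F.card]
    rw [show (95040 : ℕ) = 2 ^ 6 * 1485 by norm_num, Nat.factorization_mul (by norm_num) (by norm_num),
      Finsupp.add_apply, Nat.factorization_pow, Finsupp.smul_apply,
      Nat.Prime.factorization_self Nat.prime_two, Nat.factorization_eq_zero_of_not_dvd (by norm_num)]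
    norm_num
  haveI : Nontrivial (P : Subgroup G) := Finite.one_lt_card_iff_nontrivial.1 (by rw [hPcard]; norm_num)
  haveI := P.2.center_nontrivial
  have h2 : 2 ∣ Nat.card (center (P : Subgroup G)) := by
    obtain ⟨n, hn⟩ := IsPGroup.iff_card.1 (P.2.to_subgroup (center (P : Subgroup G)))
    rcases n with _ | n
    · exact absurd hn (Finite.one_lt_card (α := center (P : Subgroup G))).ne'
    · rw [hn, pow_succ]; exact dvd_mul_left 2 _
  obtain ⟨⟨z₀, hz₀⟩, hzo⟩ := exists_prime_orderOf_dvd_card' 2 h2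
  have hzo' : orderOf (z₀ : G) = 2 := (orderOf_coe z₀).trans ((orderOf_mk z₀ hz₀).symm.trans hzo)
  have hzc : ∀ g ∈ (P : Subgroup G), Commute (z₀ : G) g := fun g hg =>
    (congrArg Subtype.val ((mem_center_iff.1 hz₀) ⟨g, hg⟩)).symm
  have hPle : (P : Subgroup G) ≤ cz (z₀ : G) := fun g hg => mem_cz.2 (hzc g hg).symm
  have hz0t : (z₀ : G) ∈ cz t := mem_cz.2 (hzc t (hP htS))
  have hPdvd : 64 ∣ Nat.card (cz (z₀ : G)) := hPcard ▸ Subgroup.card_dvd_of_le hPle
  rcases hcenS _ hz0t (fun s hs => hzc s (hP hs)) with h1 | h1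
  · exfalso
    rcases c.im_cases h1 with e | e
    · rw [e, orderOf_one] at hzo'; exact absurd hzo' (by norm_num)
    · rw [e, c.card] at hPdvd; exact absurd hPdvd (by norm_num)
  · rcases c.im_eq h1 hud with e | e
    · exfalso
      rw [e, card_cz_conj, c.card] at hPdvd
      exact absurd hPdvd (by norm_num)
    · exact e ▸ hPdvd

end Cen

end H37.MTwelveNse
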