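import Cfsg.Agent.H37.MTwelveNse.Central

/-! Elements of order three in the centraliser of order 192. -/

set_option autoImplicit false
set_option linter.style.haveILetI false

namespace H37.MTwelveNse

open Subgroup Equiv
open scoped Pointwise
open H78.M22R (cnt cz mem_cz card_cz_conj orderOf_conj' card_class_mul exists_orderOf isPGroup_zpowers)

variable {G : Type*} [Group G] [Finite G]

/-- Elements of order six are the commuting products of elements of order two and three. -/
theorem cnt_six_eq : cnt G 6 =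
    Nat.card {p : G × G // orderOf p.1 = 2 ∧ orderOf p.2 = 3 ∧ Commute p.1 p.2} := by
  have hp : ∀ g : G, orderOf g = 6 → ∀ k : ℕ, g ^ k = g ^ (k % 6) := fun g hg k => by
    rw [← hg, pow_mod_orderOf]
  refine Nat.card_congr
    { toFun := fun g => ⟨(g.1 ^ 3, g.1 ^ 4), ?_, ?_, Commute.pow_pow_self _ _ _⟩
      invFun := fun p => ⟨p.1.1 * p.1.2, by
        rw [p.2.2.2.orderOf_mul_eq_mul_orderOf_of_coprime (by rw [p.2.1, p.2.2.1]; norm_num),
          p.2.1, p.2.2.1]⟩
      left_inv := fun g => Subtype.ext (by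
        show g.1 ^ 3 * g.1 ^ 4 = g.1
        rw [← pow_add, hp _ g.2]; norm_num)
      right_inv := ?_ }
  · show orderOf (g.1 ^ 3) = 2
    rw [orderOf_pow' _ (by norm_num), g.2]; norm_num
  · show orderOf (g.1 ^ 4) = 3
    rw [orderOf_pow' _ (by norm_num), g.2]; norm_num
  · rintro ⟨⟨s, x⟩, hs, hx, hc⟩
    have h2 := pow_orderOf_eq_one s
    have h3 := pow_orderOf_eq_one x
    simp only at hs hx hc
    rw [hs] at h2
    rw [hx] at h3
    refine Subtype.ext (Prod.ext ?_ ?_)
    · show (s * x) ^ 3 = s
      rw [hc.mul_pow, h3, mul_one, pow_succ, h2, one_mul]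
    · show (s * x) ^ 4 = x
      rw [hc.mul_pow, show 4 = 2 * 2 from rfl, pow_mul, h2, one_pow, one_mul, pow_succ x 3, h3,
        one_mul]

namespace Setting

variable (S : Setting G)

theorem card_of_conj {a : G} (h : IsConj S.t a) : Nat.card (cz a) = 240 := by
  obtain ⟨g, rfl⟩ := isConj_iff.1 h
  rw [card_cz_conj, S.c.card]

theorem not_conj : ¬ IsConj S.t S.v := fun h => by
  have := S.card_of_conj h
  rw [S.cardv] at this
  exact absurd this (by norm_num)

theorem orderOf_u : orderOf S.u = 2 := by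
  obtain ⟨g, hg⟩ := isConj_iff.1 S.hu
  rw [← hg, orderOf_conj']; exact S.c.inv

theorem v_ne_t : S.v ≠ S.t := fun h => S.not_conj (h ▸ IsConj.refl S.t)

theorem commute_vt : Commute S.v S.t := S.c.commute_im S.imv

theorem class_t (F : Facts G) : Nat.card {b : G // IsConj S.t b} = 396 := by
  have h := card_class_mul S.t
  rw [F.card, S.c.card] at h; omega

theorem class_v (F : Facts G) : Nat.card {b : G // IsConj S.v b} = 495 := by
  have h := card_class_mul S.v
  rw [F.card, S.cardv] at h; omega

/-- Pairs whose first member is an involution, split by class. -/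
theorem card_split (F : Facts G) (Q : G → Prop) (hQ : ∀ g a, Q a → Q (g * a * g⁻¹)) :
    Nat.card {p : G × G // orderOf p.1 = 2 ∧ Q p.2 ∧ Commute p.1 p.2} =
      396 * Nat.card {b : G // Q b ∧ Commute S.t b} + 495 * Nat.card {b : G // Q b ∧ Commute S.v b} := by
  classical
  rw [← S.class_t F, ← S.class_v F, ← card_pairs_class (IsConj S.t) Q hQ (fun a => Iff.rfl),
    ← card_pairs_class (IsConj S.v) Q hQ (fun a => Iff.rfl), ← Nat.card_sum]
  have hord : ∀ a : G, orderOf a = 2 ↔ IsConj S.t a ∨ IsConj S.v a := by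
    intro a
    refine ⟨S.cover a, ?_⟩
    rintro (h | h) <;> obtain ⟨g, rfl⟩ := isConj_iff.1 h
    · rw [orderOf_conj']; exact S.c.inv
    · rw [orderOf_conj']; exact S.hv
  refine Nat.card_congr
    { toFun := fun p => if h : IsConj S.t p.1.1 then Sum.inl ⟨p.1, h, p.2.2⟩
        else Sum.inr ⟨p.1, ((hord _).1 p.2.1).resolve_left h, p.2.2⟩
      invFun := fun q => match q with
        | Sum.inl p => ⟨p.1, (hord _).2 (Or.inl p.2.1), p.2.2⟩
        | Sum.inr p => ⟨p.1, (hord _).2 (Or.inr p.2.1), p.2.2⟩
      left_inv := fun p => by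
        by_cases h : IsConj S.t p.1.1
        · dsimp only; rw [dif_pos h]
        · dsimp only; rw [dif_neg h]
      right_inv := fun q => ?_ }
  rcases q with p | p
  · exact dif_pos p.2.1
  · exact dif_neg fun h => S.not_conj (h.trans p.2.1.symm)

theorem card_three_t : Nat.card {b : G // orderOf b = 3 ∧ Commute S.t b} = 20 := by
  classical
  rw [← perm_count_three, ← Fintype.card_subtype, ← Nat.card_eq_fintype_card]
  have hcube : ∀ g : G, orderOf g = 3 → ∀ σ, S.c.Im g σ → σ * σ * σ = 1 ∧ σ ≠ 1 := by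
    intro g hg σ hσ
    refine ⟨S.c.im_unique (S.c.im_mul (S.c.im_mul hσ hσ) hσ) (by rw [pow_three' hg]; exact S.c.im_one), ?_⟩
    rintro rfl
    rcases S.c.im_cases hσ with e | e
    · rw [e, orderOf_one] at hg; exact absurd hg (by norm_num)
    · rw [e, S.c.inv] at hg; exact absurd hg (by norm_num)
  choose pr hpr using fun b : {b : G // orderOf b = 3 ∧ Commute S.t b} =>
    S.c.exists_of_mem (mem_cz.2 b.2.2.symm)
  refine Nat.card_eq_of_bijective (fun b => ⟨pr b, hcube _ b.2.1 _ (hpr b)⟩) ⟨?_, ?_⟩
  · intro a b e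
    have e' : pr a = pr b := congrArg Subtype.val e
    exact Subtype.ext (S.c.odd_unique (hpr a) (e'.symm ▸ hpr b) (by rw [a.2.1]; decide)
      (by rw [b.2.1]; decide))
  · rintro ⟨σ, hσ, h1⟩
    obtain ⟨g, hg, hgo⟩ := S.c.exists_odd_lift Nat.prime_three (by norm_num)
      (by rw [pow_succ, pow_two]; exact hσ) h1
    exact ⟨⟨g, hgo, (S.c.commute_im hg).symm⟩, Subtype.ext (S.c.im_unique (hpr _) hg)⟩

/-- The centraliser of order 192 has 32 elements of order three. -/
theorem card_three_v (F : Facts G) : Nat.card {b : G // orderOf b = 3 ∧ Commute S.v b} = 32 := by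
  have h := S.card_split F (fun b => orderOf b = 3) (fun g a ha => by rw [orderOf_conj', ha])
  rw [← cnt_six_eq, F.six, S.card_three_t] at h
  omega

end Setting

end H37.MTwelveNse
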